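import Groth.Agent.GRVan.Socle

/-!
The pairing of `Ext²(k, A)` with a dualizing module, and surjectivity onto `Ext²(H, ω)`.
-/

set_option autoImplicit false
set_option backward.isDefEq.respectTransparency false
set_option linter.unusedSectionVars false
set_option linter.style.haveILetI false
set_option maxHeartbeats 800000

universe u

open CategoryTheory CategoryTheory.Limits DerivedCategory Pretriangulated

attribute [local instance] HasDerivedCategory.standard

noncomputable section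

namespace Groth.Agent.GRVan

open Groth.Agent.DualCx

variable {A : Type u} [CommRing A] [IsLocalRing A] [IsNoetherianRing A] {W : Type u} [AddCommGroup W] [Module A W]
  (hω : Dual.IsDualizing A (Dual.inD A W)) {x y : A} (hx : x ∈ IsLocalRing.maximalIdeal A)
  (hy : y ∈ IsLocalRing.maximalIdeal A) (hx0 : ∀ c : A, x * c = 0 → c = 0)
  (hy0 : ∀ c : A, x ∣ y * c → x ∣ c) (hQ : IsFiniteLength A (Qxy x y))

local notation "ω" => Dual.inD A W
local notation "κ" => (A ⧸ IsLocalRing.maximalIdeal A)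

theorem smul_hom_eq_zero {M : Type u} [AddCommGroup M] [Module A M] {c : A} (h : ∀ m : M, c • m = 0) {Z : Dual.D A}
    (f : Dual.inD A M ⟶ Z) : c • f = 0 := by
  rw [← Category.id_comp f, ← Linear.smul_comp]
  rw [show c • (𝟙 (Dual.inD A M)) = 0 from ?_, zero_comp]
  rw [show 𝟙 (Dual.inD A M) = (DerivedCategory.singleFunctor (ModuleCat.{u} A) 0).map (𝟙 (ModuleCat.of A M)) from
    (CategoryTheory.Functor.map_id _ _).symm, ← Functor.map_smul,
    show c • 𝟙 (ModuleCat.of A M) = 0 from ModuleCat.hom_ext (LinearMap.ext fun m => h m), Functor.map_zero]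

theorem smul_id_map {M : Type u} [AddCommGroup M] [Module A M] (c : A) :
    (DerivedCategory.singleFunctor (ModuleCat.{u} A) 0).map (ModuleCat.ofHom (c • (LinearMap.id : M →ₗ[A] M))) =
      c • 𝟙 (Dual.inD A M) := by
  rw [show ModuleCat.ofHom (c • (LinearMap.id : M →ₗ[A] M)) = c • 𝟙 (ModuleCat.of A M) from rfl, Functor.map_smul,
    CategoryTheory.Functor.map_id]

theorem residue_killed (c : A) (hc : c ∈ IsLocalRing.maximalIdeal A) (m : κ) : c • m = 0 := by
  obtain ⟨m, rfl⟩ := Submodule.Quotient.mk_surjective _ m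
  rw [← Submodule.Quotient.mk_smul, Submodule.Quotient.mk_eq_zero]
  exact Ideal.mul_mem_right m _ hc

theorem comp_map_smul_id {D : Type*} [Category D] [Preadditive D] [Linear A D] (F : Dual.D A ⥤ D) [F.Additive]
    [F.Linear A] (c : A) {X : D} {Z : Dual.D A} (f : X ⟶ F.obj Z) : f ≫ F.map (c • 𝟙 Z) = c • f := by
  rw [Functor.map_smul, CategoryTheory.Functor.map_id, Linear.comp_smul, Category.comp_id]

theorem isArtinian_residue : IsArtinian A κ := by
  haveI : IsSimpleModule A κ := (isSimpleModule_iff_quot_maximal (R := A) (M := κ)).2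
    ⟨IsLocalRing.maximalIdeal A, inferInstance, ⟨LinearEquiv.refl A κ⟩⟩
  infer_instance

/-- The composite connecting map `A/(x,y) ⟶ A[2]`. -/
def E2 (hx0 : ∀ c : A, x * c = 0 → c = 0) (hy0 : ∀ c : A, x ∣ y * c → x ∣ c) :
    Dual.inD A (Qxy x y) ⟶ (Dual.inD A A)⟦(2 : ℤ)⟧ :=
  (ses_y x y hy0).shortExact.singleδ ≫ ((ses_x x hx0).shortExact.singleδ)⟦(1 : ℤ)⟧' ≫
    (shiftFunctorAdd' (Dual.D A) (1 : ℤ) 1 2 (by norm_num)).inv.app (Dual.inD A A)

include hx hy in
/-- every class in `Ext²(k, A)` comes from `A/(x,y)` -/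
theorem exists_eq_E2 (η : Dual.inD A κ ⟶ (Dual.inD A A)⟦(2 : ℤ)⟧) :
    ∃ s : κ →ₗ[A] Qxy x y,
      η = (DerivedCategory.singleFunctor (ModuleCat.{u} A) 0).map (ModuleCat.ofHom s) ≫ E2 hx0 hy0 := by
  have hk := residue_killed (A := A)
  let d := (shiftFunctorAdd' (Dual.D A) (1 : ℤ) 1 2 (by norm_num)).app (Dual.inD A A)
  have hT3 := rot_of_distTriang _ (rot_of_distTriang _ (rot_of_distTriang _
    (ses_x x hx0).shortExact.singleTriangle_distinguished))
  obtain ⟨z, hz⟩ := Triangle.coyoneda_exact₁ _ hT3 (η ≫ d.hom) (by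
    show (η ≫ d.hom) ≫
      (-((DerivedCategory.singleFunctor (ModuleCat.{u} A) 0).map
        (ModuleCat.ofHom (x • (LinearMap.id : A →ₗ[A] A))))⟦(1 : ℤ)⟧')⟦(1 : ℤ)⟧' = 0
    rw [smul_id_map, Functor.map_neg, Preadditive.comp_neg, neg_eq_zero]
    exact (comp_map_smul_id (shiftFunctor (Dual.D A) (1 : ℤ) ⋙ shiftFunctor (Dual.D A) (1 : ℤ)) x _).trans
      (smul_hom_eq_zero (hk x hx) _))
  obtain ⟨s, hs⟩ := Triangle.coyoneda_exact₁ _ (ses_y x y hy0).shortExact.singleTriangle_distinguished (-z) (by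
    show (-z) ≫ ((DerivedCategory.singleFunctor (ModuleCat.{u} A) 0).map
      (ModuleCat.ofHom (y • (LinearMap.id : _ →ₗ[A] _))))⟦(1 : ℤ)⟧' = 0
    rw [smul_id_map]
    exact (comp_map_smul_id (shiftFunctor (Dual.D A) (1 : ℤ)) y _).trans (smul_hom_eq_zero (hk y hy) _))
  obtain ⟨s', hs'⟩ := (DerivedCategory.singleFunctor (ModuleCat.{u} A) 0).map_surjective
    (X := ModuleCat.of A κ) (Y := ModuleCat.of A (Qxy x y)) s
  refine ⟨s'.hom, ?_⟩
  rw [ModuleCat.ofHom_hom, hs', ← cancel_mono d.hom, hz]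
  change z ≫ (-((ses_x x hx0).shortExact.singleδ)⟦(1 : ℤ)⟧') = _
  rw [Preadditive.comp_neg, ← Preadditive.neg_comp, hs]
  simp only [E2, Category.assoc, d, Iso.app_hom, Iso.inv_hom_id_app]
  erw [Category.comp_id]
  rfl

include hx0 hy0 in
/-- `Hom(A, ω) → Hom(A/(x,y), ω[2])` is surjective -/
theorem exists_E2_comp (t : T ω (Qxy x y) 2) :
    ∃ g : Dual.inD A A ⟶ ω, E2 hx0 hy0 ≫ g⟦(2 : ℤ)⟧' = t := by
  let d := fun Z : Dual.D A => (shiftFunctorAdd' (Dual.D A) (1 : ℤ) 1 2 (by norm_num)).app Z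
  obtain ⟨z, hz⟩ := Triangle.yoneda_exact₃ _ (ses_y x y hy0).shortExact.singleTriangle_distinguished t
    (@Subsingleton.elim _ (subsingleton_quot₁ (W := W) x hx0 le_rfl) _ _)
  obtain ⟨t', ht'⟩ := (shiftFunctor (Dual.D A) (1 : ℤ)).map_surjective (z ≫ (d ω).hom)
  obtain ⟨z', hz'⟩ := Triangle.yoneda_exact₃ _ (ses_x x hx0).shortExact.singleTriangle_distinguished t'
    (@Subsingleton.elim _ (subsingleton_self (W := W) one_ne_zero) _ _)
  obtain ⟨g, rfl⟩ := (shiftFunctor (Dual.D A) (1 : ℤ)).map_surjective z'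
  refine ⟨g, ?_⟩
  rw [hz]
  change (_ ≫ _ ≫ _) ≫ _ = (ses_y x y hy0).shortExact.singleδ ≫ z
  simp only [Category.assoc]
  congr 1
  have hn := (shiftFunctorAdd' (Dual.D A) (1 : ℤ) 1 2 (by norm_num)).inv.naturality g
  erw [← hn]
  rw [← cancel_mono (d ω).hom]
  simp only [Category.assoc, d, Iso.app_hom, Iso.inv_hom_id_app]
  erw [Category.comp_id]
  refine Eq.trans ?_ ht'
  rw [hz']
  exact (Functor.map_comp _ _ _).symm

include hω hx hy hx0 hy0 hQ in
/-- the pairing `Ext²(k, A) × Hom(A, ω) → Ext²(k, ω)` is nondegenerate on the left -/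
theorem exists_pairing_ne_zero (η : Dual.inD A κ ⟶ (Dual.inD A A)⟦(2 : ℤ)⟧) (hη : η ≠ 0) :
    ∃ g : Dual.inD A A ⟶ ω, η ≫ g⟦(2 : ℤ)⟧' ≠ 0 := by
  obtain ⟨s, rfl⟩ := exists_eq_E2 hx hy hx0 hy0 η
  obtain ⟨hk, ⟨e⟩⟩ := residue_two hω x y hx hy hx0 hy0 hQ
  haveI : (IsLocalRing.maximalIdeal A).IsMaximal := inferInstance
  have hs : Function.Injective s := by
    have hs0 : s ≠ 0 := fun h => hη (by
      rw [h, show ModuleCat.ofHom (0 : κ →ₗ[A] Qxy x y) = 0 from rfl, Functor.map_zero, zero_comp])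
    haveI : IsSimpleModule A κ := (isSimpleModule_iff_quot_maximal (R := A) (M := κ)).2
      ⟨IsLocalRing.maximalIdeal A, inferInstance, ⟨LinearEquiv.refl A κ⟩⟩
    rw [← LinearMap.ker_eq_bot]
    exact (eq_bot_or_eq_top (LinearMap.ker s)).resolve_right fun h => hs0 (LinearMap.ker_eq_top.1 h)
  have h3 : Subsingleton (T ω (Qxy x y ⧸ LinearMap.range s) 3) :=
    subsingleton_of_finiteLength (hk 3 (by norm_num)) (hQ.of_surjective (Submodule.mkQ_surjective _))
  obtain ⟨t₀, ht₀⟩ : ∃ t : T ω κ 2, t ≠ 0 := ⟨e.symm (Submodule.Quotient.mk 1), fun h => by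
    have h1 := (congrArg e h).symm.trans (e.apply_symm_apply _)
    rw [map_zero] at h1
    exact (IsLocalRing.maximalIdeal.isMaximal A).ne_top ((Ideal.eq_top_iff_one _).2
      ((Submodule.Quotient.mk_eq_zero _).1 h1.symm))⟩
  obtain ⟨t, ht⟩ := (ses_range hs).exact_left (show (2 : ℤ) + 1 = 3 by norm_num) t₀ (Subsingleton.elim _ _)
  obtain ⟨g, hg⟩ := exists_E2_comp hx0 hy0 t
  refine ⟨g, ?_⟩
  rw [Category.assoc, hg]
  exact fun h => ht₀ (ht.symm.trans h)

/-- pairing with a fixed class -/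
def pairMap {M : Type u} [AddCommGroup M] [Module A M] (e : Dual.inD A M ⟶ (Dual.inD A A)⟦(2 : ℤ)⟧) :
    (Dual.inD A A ⟶ ω) →ₗ[A] T ω M 2 where
  toFun g := e ≫ g⟦(2 : ℤ)⟧'
  map_add' g h := by rw [Functor.map_add, Preadditive.comp_add]
  map_smul' a g := by rw [Functor.map_smul, Linear.comp_smul]; rfl

include hω hx hy hx0 hy0 hQ in
/-- a socle-nondegenerate class induces a surjection `Hom(A, ω) → Hom(H, ω[2])` -/
theorem pairMap_surjective {H : Type u} [AddCommGroup H] [Module A H] (hH : IsFiniteLength A H)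
    (e : Dual.inD A H ⟶ (Dual.inD A A)⟦(2 : ℤ)⟧)
    (he : ∀ z : κ →ₗ[A] H,
      (DerivedCategory.singleFunctor (ModuleCat.{u} A) 0).map (ModuleCat.ofHom z) ≫ e = 0 → z = 0) :
    Function.Surjective (pairMap (W := W) e) := by
  classical
  obtain ⟨hk, ⟨e2⟩⟩ := residue_two hω x y hx hy hx0 hy0 hQ
  haveI : Module.Finite A H := by
    haveI := (isFiniteLength_iff_isNoetherian_isArtinian.1 hH).1
    infer_instance
  obtain ⟨r, c, hc⟩ := Submodule.fg_iff_exists_fin_generating_family.1
    (IsNoetherian.noetherian (IsLocalRing.maximalIdeal A))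
  have hcm : ∀ i, c i ∈ IsLocalRing.maximalIdeal A := fun i => hc ▸ Ideal.subset_span ⟨i, rfl⟩
  let φ : H →ₗ[A] (Fin r → H) := LinearMap.pi fun i => c i • LinearMap.id
  let S := LinearMap.ker φ
  have hS : ∀ a ∈ IsLocalRing.maximalIdeal A, ∀ v : S, a • v = 0 := by
    intro a ha v
    rw [← hc] at ha
    induction ha using Submodule.span_induction with
    | mem a ha => obtain ⟨i, rfl⟩ := ha; exact Subtype.ext (congrFun (LinearMap.mem_ker.1 v.2) i)
    | zero => exact zero_smul _ _
    | add a b _ _ ha hb => rw [add_smul, ha, hb, add_zero]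
    | smul a b _ hb => rw [smul_eq_mul, mul_smul, hb, smul_zero]
  -- the restriction to the socle is onto
  obtain ⟨s, v, hv⟩ := Module.Finite.exists_fin (R := A) (M := S)
  let ev : T ω S 2 →ₗ[A] (Fin s → κ) := LinearMap.pi fun j => e2.toLinearMap.comp (pre ω 2
    (Submodule.liftQ _ (LinearMap.toSpanSingleton A S (v j)) fun a ha => hS a ha (v j)))
  have hev : Function.Injective ev := by
    refine (injective_iff_map_eq_zero _).2 fun t ht => ?_
    let p : (Fin s → κ) →ₗ[A] S :=
      ∑ j, (Submodule.liftQ _ (LinearMap.toSpanSingleton A S (v j)) fun a ha => hS a ha (v j)).comp (LinearMap.proj j)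
    have hp : Function.Surjective p := LinearMap.range_eq_top.1 (top_le_iff.1 (hv ▸ Submodule.span_le.2 (by
      rintro _ ⟨j, rfl⟩
      refine ⟨Pi.single j (Submodule.Quotient.mk 1), ?_⟩
      rw [LinearMap.sum_apply, Finset.sum_eq_single j]
      · simp only [LinearMap.comp_apply, LinearMap.proj_apply, Pi.single_eq_same]
        exact one_smul A (v j)
      · intro b _ hb
        simp [Pi.single_eq_of_ne hb]
      · simp)))
    have hK : Subsingleton (T ω ↥(LinearMap.ker p) 1) := by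
      refine subsingleton_of_finiteLength (hk 1 (by norm_num)) (IsFiniteLength.of_injective ?_
        (f := (LinearMap.ker p).subtype) (Submodule.subtype_injective _))
      haveI := isArtinian_residue (A := A)
      exact isFiniteLength_iff_isNoetherian_isArtinian.2 ⟨inferInstance, inferInstance⟩
    have h0 : pre ω 2 p t = 0 := by
      rw [pre_sum, Finset.sum_eq_zero fun j _ => ?_]
      rw [pre_comp]
      have := congrFun ht j
      rw [LinearMap.pi_apply, LinearMap.comp_apply, Pi.zero_apply, LinearEquiv.coe_coe,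
        LinearEquiv.map_eq_zero_iff] at this
      rw [this, map_zero]
    obtain ⟨y', hy'⟩ := (SES.mk (f := (LinearMap.ker p).subtype) (Submodule.subtype_injective _)
      (LinearMap.exact_subtype_ker_map p) hp).exact_right (show (1 : ℤ) + 1 = 2 by norm_num) t h0
    rw [← hy', @Subsingleton.elim _ hK y' 0, map_zero]
  let J : Submodule A (T ω S 2) := LinearMap.range ((pre ω 2 S.subtype).comp (pairMap e))
  have hJ : J = ⊤ := by
    by_contra hne
    obtain ⟨t, -, ht⟩ := SetLike.exists_of_lt (lt_top_iff_ne_top.2 hne)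
    obtain ⟨π, hπ, hπt⟩ := exists_functional (m := IsLocalRing.maximalIdeal A)
      (X := Fin s → κ) (fun a ha w => funext fun j => residue_killed (A := A) a ha (w j)) (J.map ev) (z := ev t) (fun h => by
        obtain ⟨t', ht', h'⟩ := h
        exact ht (hev h' ▸ ht'))
    choose a ha using fun j => Submodule.Quotient.mk_surjective _ (π (Pi.single j (Submodule.Quotient.mk 1)))
    have hπw : ∀ w, π w = ∑ j, a j • w j := fun w => by
      conv_lhs => rw [← Finset.univ_sum_single w]
      rw [map_sum]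
      refine Finset.sum_congr rfl fun j _ => ?_
      obtain ⟨b, hb⟩ := Submodule.Quotient.mk_surjective _ (w j)
      rw [← hb, show (Submodule.Quotient.mk b : κ) = b • Submodule.Quotient.mk 1 by
        rw [← Submodule.Quotient.mk_smul, smul_eq_mul, mul_one], Pi.single_smul', map_smul, ← ha j,
        ← Submodule.Quotient.mk_smul, ← Submodule.Quotient.mk_smul, ← Submodule.Quotient.mk_smul]
      congr 1
      simp only [smul_eq_mul]; ring
    let zS : κ →ₗ[A] S := ∑ j, a j • Submodule.liftQ _ (LinearMap.toSpanSingleton A S (v j)) fun b hb => hS b hb (v j)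
    have hzS : ∀ t : T ω S 2, e2 (pre ω 2 zS t) = π (ev t) := fun t => by
      rw [pre_sum, map_sum, hπw]
      exact Finset.sum_congr rfl fun j _ => by rw [pre_smul, map_smul]; rfl
    have hz : S.subtype.comp zS ≠ 0 := fun h => by
      have h' : zS = 0 := LinearMap.ext fun q => Subtype.ext (LinearMap.congr_fun h q)
      have h1 := hzS t
      rw [h', pre_zero, map_zero, hπt] at h1
      exact (IsLocalRing.maximalIdeal.isMaximal A).ne_top ((Ideal.eq_top_iff_one _).2
        ((Submodule.Quotient.mk_eq_zero _).1 h1.symm))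
    obtain ⟨g, hg⟩ := exists_pairing_ne_zero hω hx hy hx0 hy0 hQ _ (fun h => hz (he _ h))
    refine hg (e2.injective ?_)
    rw [map_zero, ← hπ _ ⟨pre ω 2 S.subtype (pairMap e g), ⟨g, rfl⟩, rfl⟩, ← hzS, ← pre_comp]
    simp only [pairMap, LinearMap.coe_mk, AddHom.coe_mk, pre_apply, Category.assoc]
  -- Nakayama
  haveI := finite_T hω H 2
  have h3 : Subsingleton (T ω ((Fin r → H) ⧸ LinearMap.range φ) 3) := by
    refine subsingleton_of_finiteLength (hk 3 (by norm_num)) (IsFiniteLength.of_surjective ?_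
      (Submodule.mkQ_surjective _))
    haveI := (isFiniteLength_iff_isNoetherian_isArtinian.1 hH).1
    haveI := (isFiniteLength_iff_isNoetherian_isArtinian.1 hH).2
    exact isFiniteLength_iff_isNoetherian_isArtinian.2 ⟨inferInstance, isArtinian_pi⟩
  rw [← LinearMap.range_eq_top]
  refine top_le_iff.1 (Submodule.le_of_le_smul_of_le_jacobson_bot (I := IsLocalRing.maximalIdeal A)
    Module.Finite.fg_top (le_of_eq (IsLocalRing.jacobson_eq_maximalIdeal (⊥ : Ideal A) bot_ne_top).symm) ?_)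
  intro t _
  obtain ⟨g, hg⟩ : pre ω 2 S.subtype t ∈ J := hJ ▸ trivial
  have h0 : pre ω 2 S.subtype (t - pairMap e g) = 0 := by
    rw [map_sub]
    exact sub_eq_zero.2 hg.symm
  have hses : SES S.subtype φ.rangeRestrict := ⟨Submodule.subtype_injective _,
    LinearMap.exact_iff.2 (by rw [LinearMap.ker_rangeRestrict, Submodule.range_subtype]), φ.surjective_rangeRestrict⟩
  obtain ⟨y₁, hy₁⟩ := hses.exact_mid _ h0
  obtain ⟨y₂, hy₂⟩ := (ses_quot (LinearMap.range φ)).exact_left (show (2 : ℤ) + 1 = 3 by norm_num) y₁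
    (Subsingleton.elim _ _)
  have hdec : φ = ∑ j, c j • LinearMap.single A (fun _ : Fin r => H) j := by
    ext v i
    simp [φ, LinearMap.sum_apply, Finset.sum_apply, Pi.single_apply, Finset.sum_ite_eq']
  refine Submodule.mem_sup.2 ⟨pairMap e g, ⟨g, rfl⟩, t - pairMap e g, ?_, add_sub_cancel _ _⟩
  rw [← hy₁, ← hy₂, ← pre_comp, show (LinearMap.range φ).subtype.comp φ.rangeRestrict = φ from rfl, hdec, pre_sum]
  refine Submodule.sum_mem _ fun j _ => ?_
  rw [pre_smul]
  exact Submodule.smul_mem_smul (hcm j) trivial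

end Groth.Agent.GRVan
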