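import Groth.Agent.GRVan.Ring

/-!
An element killing the cokernel of the dual restriction kills the first cohomology.
-/

set_option autoImplicit false
set_option backward.isDefEq.respectTransparency false
set_option linter.unusedSectionVars false
set_option linter.style.haveILetI false
set_option maxHeartbeats 800000

universe u

open CategoryTheory CategoryTheory.Limits DerivedCategory Pretriangulated

attribute [local instance] HasDerivedCategory.standard

noncomputable section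

namespace Groth.Agent.GRVan

open Groth.Agent.DualCx

variable {A : Type u} [CommRing A] [IsLocalRing A] [IsNoetherianRing A] {W : Type u} [AddCommGroup W] [Module A W]
  (hω : Dual.IsDualizing A (Dual.inD A W)) {x y : A} (hx : x ∈ IsLocalRing.maximalIdeal A)
  (hy : y ∈ IsLocalRing.maximalIdeal A) (hx0 : ∀ c : A, x * c = 0 → c = 0)
  (hy0 : ∀ c : A, x ∣ y * c → x ∣ c) (hQ : IsFiniteLength A (Qxy x y))

local notation "ω" => Dual.inD A W
local notation "κ" => (A ⧸ IsLocalRing.maximalIdeal A)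

include hω hx hy hx0 hy0 hQ in
/-- `Hom(-, ω[2])` detects nonzero finite length modules. -/
theorem subsingleton_of_subsingleton_T {M : Type u} [AddCommGroup M] [Module A M] (hM : IsFiniteLength A M)
    (h : Subsingleton (T ω M 2)) : Subsingleton M := by
  obtain ⟨hk, ⟨e2⟩⟩ := residue_two hω x y hx hy hx0 hy0 hQ
  by_contra hne
  haveI := not_subsingleton_iff_nontrivial.1 hne
  haveI := (isFiniteLength_iff_isNoetherian_isArtinian.1 hM).1
  haveI : Module.Finite A M := inferInstance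
  obtain ⟨N, hN, -⟩ := (eq_top_or_exists_le_coatom (⊥ : Submodule A M)).resolve_left bot_ne_top
  haveI : IsSimpleModule A (M ⧸ N) := isSimpleModule_iff_isCoatom.2 hN
  obtain ⟨q, hq, ⟨e⟩⟩ := (isSimpleModule_iff_quot_maximal (R := A) (M := M ⧸ N)).1 inferInstance
  rw [IsLocalRing.eq_maximalIdeal hq] at e
  haveI h1 : Subsingleton (T ω N 1) :=
    subsingleton_of_finiteLength (hk 1 (by norm_num)) (hM.of_injective (Submodule.subtype_injective N))
  have hq2 : Subsingleton (T ω (M ⧸ N) 2) := (ses_quot N).subsingleton_right (i := 1) h1 h (by norm_num)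
  haveI : Subsingleton (T ω κ 2) := (DualCx.subsingleton_congr e).1 hq2
  haveI : Subsingleton κ := e2.symm.toEquiv.subsingleton
  exact (IsLocalRing.maximalIdeal.isMaximal A).ne_top
    (Submodule.Quotient.subsingleton_iff.1 inferInstance)

include hω hx hy hx0 hy0 hQ in
/-- An element killing `Hom(H, ω[2])` kills `H`. -/
theorem smul_eq_zero_of_smul_T {H : Type u} [AddCommGroup H] [Module A H] (hH : IsFiniteLength A H) (d : A)
    (h : ∀ t : T ω H 2, d • t = 0) (v : H) : d • v = 0 := by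
  obtain ⟨hk, -⟩ := residue_two hω x y hx hy hx0 hy0 hQ
  let f : H →ₗ[A] H := d • LinearMap.id
  let K := LinearMap.range f
  let p : H →ₗ[A] K := f.rangeRestrict
  have hp : Function.Surjective p := f.surjective_rangeRestrict
  haveI h3 : Subsingleton (T ω (H ⧸ K) 3) :=
    subsingleton_of_finiteLength (hk 3 (by norm_num)) (hH.of_surjective (Submodule.mkQ_surjective _))
  haveI h1 : Subsingleton (T ω ↥(LinearMap.ker p) 1) :=
    subsingleton_of_finiteLength (hk 1 (by norm_num)) (hH.of_injective (Submodule.subtype_injective _))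
  haveI : Subsingleton (T ω K 2) := subsingleton_of_forall_eq 0 fun s => by
    obtain ⟨t, ht⟩ := (ses_quot K).exact_left (show (2 : ℤ) + 1 = 3 by norm_num) s (Subsingleton.elim _ _)
    have h0 : pre ω 2 p s = 0 := by
      rw [← ht, ← pre_comp]
      refine Eq.trans ?_ (h t)
      rw [← pre_smul_id]
      rfl
    obtain ⟨y', hy'⟩ := (SES.mk (f := (LinearMap.ker p).subtype) (Submodule.subtype_injective _)
      (LinearMap.exact_subtype_ker_map p) hp).exact_right (show (1 : ℤ) + 1 = 2 by norm_num) s h0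
    rw [← hy', @Subsingleton.elim _ h1 y' 0, map_zero]
  haveI := subsingleton_of_subsingleton_T hω hx hy hx0 hy0 hQ
    (hH.of_injective (Submodule.subtype_injective K)) inferInstance
  exact congrArg Subtype.val (Subsingleton.elim (p v) 0)

include hω hx hy hx0 hy0 hQ in
/-- If a map `A ⟶ Y` has dual cokernel killed by `d`, then `d` kills `H¹(Y)`. -/
theorem kill_cohomology_one (Y : Dual.D A) [Y.IsGE 0] [Y.IsLE 1] (e0 : Nonempty (A ≃ₗ[A] Dual.HD A Y 0))
    (hH : IsFiniteLength A (Dual.HD A Y 1))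
    (hker : Subsingleton ((Dual.inD A (A ⧸ IsLocalRing.maximalIdeal A))⟦(-1 : ℤ)⟧ ⟶ Y))
    (σ : Dual.inD A A ⟶ Y) (d : A) (hσ : ∀ g : Dual.inD A A ⟶ ω, ∃ u : Y ⟶ ω, σ ≫ u = d • g)
    (z : Dual.HD A Y 1) : d • z = 0 := by
  obtain ⟨N, H, v, u, w, hT, ⟨eN⟩, ⟨eH⟩⟩ := exists_triangle_zero_one Y
  obtain ⟨e0⟩ := e0
  let SF := DerivedCategory.singleFunctor (ModuleCat.{u} A) 0
  let cN : Dual.inD A A ≅ SF.obj N := SF.mapIso (e0.trans eN.symm).toModuleIso
  let dd := (shiftFunctorAdd' (Dual.D A) (1 : ℤ) 1 2 (by norm_num)).app (Dual.inD A A)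
  let a := (shiftFunctorCompIsoId (Dual.D A) (-1 : ℤ) 1 (by norm_num)).app (SF.obj H)
  let e : Dual.inD A H ⟶ (Dual.inD A A)⟦(2 : ℤ)⟧ := a.inv ≫ (w ≫ cN.inv⟦(1 : ℤ)⟧')⟦(1 : ℤ)⟧' ≫ dd.inv
  have he : ∀ z : (A ⧸ IsLocalRing.maximalIdeal A) →ₗ[A] H, SF.map (ModuleCat.ofHom z) ≫ e = 0 → z = 0 := by
    intro z hz
    have h1 : (SF.map (ModuleCat.ofHom z))⟦(-1 : ℤ)⟧' ≫ w = 0 := by
      rw [← cancel_mono (cN.inv⟦(1 : ℤ)⟧'), zero_comp]
      apply (shiftFunctor (Dual.D A) (1 : ℤ)).map_injective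
      rw [Functor.map_zero]
      have hn := (shiftFunctorCompIsoId (Dual.D A) (-1 : ℤ) 1 (by norm_num)).inv.naturality (SF.map (ModuleCat.ofHom z))
      rw [← cancel_epi ((shiftFunctorCompIsoId (Dual.D A) (-1 : ℤ) 1 (by norm_num)).inv.app _), comp_zero,
        ← cancel_mono dd.inv, zero_comp, Category.assoc, Functor.map_comp, Functor.map_comp]
      simp only [Category.assoc]
      refine Eq.trans ?_ hz
      simp only [e, a, Category.assoc, Functor.map_comp, Iso.app_inv]
      erw [← reassoc_of% hn]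
    obtain ⟨q, hq⟩ := Triangle.coyoneda_exact₃ _ hT ((SF.map (ModuleCat.ofHom z))⟦(-1 : ℤ)⟧') h1
    have h2 : (SF.map (ModuleCat.ofHom z))⟦(-1 : ℤ)⟧' = 0 := by
      rw [hq, @Subsingleton.elim _ hker q 0, zero_comp]
    have h3 : SF.map (ModuleCat.ofHom z) = 0 := (shiftFunctor (Dual.D A) (-1 : ℤ)).map_injective (by
      rw [h2, Functor.map_zero])
    exact congrArg ModuleCat.Hom.hom (SF.map_injective (h3.trans (Functor.map_zero _ _ _).symm))
  have hHf : IsFiniteLength A H := eH.symm.isFiniteLength hH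
  have hsurj := pairMap_surjective hω hx hy hx0 hy0 hQ hHf e he
  -- `σ` factors through the degree zero part
  obtain ⟨r, hr⟩ := Triangle.coyoneda_exact₂ _ hT σ (by
    show σ ≫ u = 0
    haveI : ((SF.obj H)⟦(-1 : ℤ)⟧).IsGE 1 :=
      (TStructure.t (C := ModuleCat.{u} A)).isGE_shift _ 0 (-1) 1 (by omega)
    exact DerivedCategory.TStructure.t.zero _ 0 1 (by omega))
  obtain ⟨r₀, hr₀⟩ := SF.map_surjective (X := ModuleCat.of A A) (Y := ModuleCat.of A A) (r ≫ cN.inv)
  have hr₁ : r₀ = (r₀.hom (1 : A)) • 𝟙 (ModuleCat.of A A) := ModuleCat.hom_ext (LinearMap.ext_ring (by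
    show r₀.hom 1 = r₀.hom (1 : A) • (1 : A)
    rw [smul_eq_mul, mul_one]))
  have hr' : r = (r₀.hom (1 : A)) • cN.hom := by
    refine ((Iso.comp_inv_eq cN).1 hr₀.symm).trans ?_
    conv_lhs => rw [hr₁]
    rw [Functor.map_smul, CategoryTheory.Functor.map_id]
    exact (Linear.smul_comp _ _ _ _ _ _).trans (congrArg _ (Category.id_comp cN.hom))
  refine eH.symm.injective ((map_smul eH.symm.toLinearMap d z).trans (Eq.trans ?_ (map_zero _).symm))
  refine smul_eq_zero_of_smul_T hω hx hy hx0 hy0 hQ hHf d (fun t => ?_) _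
  obtain ⟨g, rfl⟩ := hsurj t
  obtain ⟨u₁, hu₁⟩ := hσ g
  have hv : cN.hom ≫ v ≫ ((r₀.hom (1 : A)) • u₁) = d • g := by
    rw [← hu₁, hr]
    show _ = (r ≫ v) ≫ u₁
    rw [hr', Linear.comp_smul, Linear.comp_smul, Linear.smul_comp, Linear.smul_comp, Category.assoc]
  rw [← map_smul]
  show e ≫ (d • g)⟦(2 : ℤ)⟧' = 0
  rw [← hv]
  simp only [e, Category.assoc]
  have hn := (shiftFunctorAdd' (Dual.D A) (1 : ℤ) 1 2 (by norm_num)).inv.naturality
    (cN.hom ≫ v ≫ ((r₀.hom (1 : A)) • u₁))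
  erw [← hn]
  simp only [Functor.comp_map]
  rw [← Category.assoc, ← Category.assoc, Category.assoc a.inv, ← Functor.map_comp]
  have h0 : (w ≫ cN.inv⟦(1 : ℤ)⟧') ≫ (cN.hom ≫ v ≫ ((r₀.hom (1 : A)) • u₁))⟦(1 : ℤ)⟧' = 0 := by
    rw [Category.assoc, ← Functor.map_comp, Iso.inv_hom_id_assoc, Functor.map_comp, ← Category.assoc]
    erw [comp_distTriang_mor_zero₃₁ _ hT]
    rw [zero_comp]
  rw [h0, Functor.map_zero, comp_zero, zero_comp]

end Groth.Agent.GRVan
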