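import Groth.Agent.GRVan.Socle
import Mathlib

/-!
Regular pairs through every nonzero element of a two-dimensional normal local domain.
-/

set_option autoImplicit false

universe u

open IsLocalRing RingTheory.Sequence CategoryTheory
open scoped Pointwise

noncomputable section

namespace Groth.Agent.GRVan

theorem exists_pair {A : Type u} [CommRing A] [IsLocalRing A] [IsNoetherianRing A] [IsDomain A]
    [IsIntegrallyClosed A] (hdim : ringKrullDim A = 2) {x : A} (hxm : x ∈ maximalIdeal A) (hx0 : x ≠ 0) :
    ∃ y ∈ maximalIdeal A, (∀ c : A, x ∣ y * c → x ∣ c) ∧ IsFiniteLength A (Qxy x y) := by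
  classical
  have hd : ¬ ringKrullDim A ≤ 1 := by rw [hdim]; decide
  have hm2 : ∀ q : Ideal A, q.IsPrime → x ∈ q → (∀ P ∈ (Ideal.span {x}).minimalPrimes, P ≠ q) →
      q = maximalIdeal A := by
    intro q hq hxq hne
    by_contra hqm
    obtain ⟨P, hP, hPq⟩ := Ideal.exists_minimalPrimes_le (J := q) ((Ideal.span_singleton_le_iff_mem _).2 hxq)
    haveI := hP.1.1
    have hlt : P < q := lt_of_le_of_ne hPq (hne P hP)
    have hlt' : q < maximalIdeal A := lt_of_le_of_ne (le_maximalIdeal hq.ne_top) hqm
    have h1 : P.height + 1 ≤ q.height := by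
      haveI := hq
      exact Ideal.height_add_one_le_of_lt_of_isPrime hlt
    have h2 : q.height + 1 ≤ (maximalIdeal A).height := Ideal.height_add_one_le_of_lt_of_isPrime hlt'
    have h3 : (⊥ : Ideal A) < P := bot_lt_iff_ne_bot.2 fun e => hx0 (by
      have := hP.1.2 (Ideal.subset_span (Set.mem_singleton x))
      rw [e] at this
      exact this)
    have h4 : (⊥ : Ideal A).height + 1 ≤ P.height := Ideal.height_add_one_le_of_lt_of_isPrime h3
    have h5 : ((maximalIdeal A).height : WithBot ℕ∞) = ((2 : ℕ∞) : WithBot ℕ∞) := by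
      rw [maximalIdeal_height_eq_ringKrullDim, hdim]; rfl
    rw [WithBot.coe_inj] at h5
    rw [h5] at h2
    have : (⊥ : Ideal A).height + 1 + 1 + 1 ≤ 2 :=
      ((add_le_add_left (add_le_add_left h4 1) 1).trans ((add_le_add_left h1 1).trans h2))
    rw [Ideal.height_bot] at this
    exact absurd this (by decide)
  obtain ⟨y, hym, hyreg, hymin⟩ : ∃ y ∈ maximalIdeal A, IsSMulRegular (QuotSMulTop x A) y ∧
      ∀ P ∈ (Ideal.span {x}).minimalPrimes, y ∉ P := by
    by_contra! hcon
    have hfin := associatedPrimes.finite A (QuotSMulTop x A)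
    have hmin := (Ideal.span {x}).finite_minimalPrimes_of_isNoetherianRing
    have hsub : (maximalIdeal A : Set A) ⊆
        ⋃ p ∈ (↑(hfin.toFinset ∪ hmin.toFinset) : Set (Ideal A)), (id p : Ideal A) := by
      intro a ha
      by_cases hreg : IsSMulRegular (QuotSMulTop x A) a
      · obtain ⟨P, hP, haP⟩ := hcon a ha hreg
        exact Set.mem_iUnion₂.2 ⟨P, by simp [hP], haP⟩
      · have h0 : a ∈ ({r : A | IsSMulRegular (QuotSMulTop x A) r}ᶜ : Set A) := hreg
        rw [← biUnion_associatedPrimes_eq_compl_regular] at h0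
        obtain ⟨P, hP, haP⟩ := Set.mem_iUnion₂.1 h0
        exact Set.mem_iUnion₂.2 ⟨P, by simp [hP], haP⟩
    obtain ⟨p, hp', hle⟩ := (Ideal.subset_union_prime (⊥ : Ideal A) ⊥ fun p hp _ _ => by
      rcases Finset.mem_union.1 hp with hp | hp
      · exact IsAssociatedPrime.isPrime (hfin.mem_toFinset.1 hp)
      · exact (hmin.mem_toFinset.1 hp).1.1).1 hsub
    rcases Finset.mem_union.1 hp' with hp | hp
    swap
    · have hPm : maximalIdeal A ∈ (Ideal.span {x}).minimalPrimes := by
        have h := hmin.mem_toFinset.1 hp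
        have e : p = maximalIdeal A := le_antisymm (le_maximalIdeal h.1.1.ne_top) hle
        exact e ▸ h
      haveI := hPm.1.1
      refine hd ?_
      rw [← maximalIdeal_height_eq_ringKrullDim]
      exact_mod_cast Ideal.height_le_one_of_isPrincipal_of_mem_minimalPrimes (Ideal.span {x}) (maximalIdeal A) hPm
    obtain ⟨hpp, ybar, hpy⟩ := isAssociatedPrime_iff.1 (hfin.mem_toFinset.1 hp)
    obtain ⟨y, rfl⟩ := Submodule.Quotient.mk_surjective _ ybar
    have hyx : ¬ x ∣ y := fun ⟨c, hc⟩ => hpp.ne_top (by
      have h0 : (Submodule.Quotient.mk y : QuotSMulTop x A) = 0 := by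
        rw [Submodule.Quotient.mk_eq_zero, hc]
        exact Submodule.smul_mem_pointwise_smul c x ⊤ trivial
      rw [hpy, Ideal.eq_top_iff_one, Submodule.mem_colon_singleton, h0, smul_zero]
      exact zero_mem _)
    have hdiv : ∀ a ∈ maximalIdeal A, ∃ c, y * a = x * c := fun a ha => by
      have h : a ∈ p := hle ha
      rw [hpy, Submodule.mem_colon_singleton, Submodule.mem_bot, ← Submodule.Quotient.mk_smul,
        Submodule.Quotient.mk_eq_zero, Submodule.mem_smul_pointwise_iff_exists] at h
      obtain ⟨c, -, hc⟩ := h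
      exact ⟨c, by rw [mul_comm]; exact hc.symm⟩
    by_cases hu : ∃ a ∈ maximalIdeal A, ∃ c, IsUnit c ∧ y * a = x * c
    · obtain ⟨a, ha, -, ⟨v, rfl⟩, hv⟩ := hu
      have hy0 : y ≠ 0 := fun e => hyx (e ▸ dvd_zero x)
      have hspan : maximalIdeal A = Ideal.span {a} := by
        refine le_antisymm (fun b hb => ?_) ((Ideal.span_singleton_le_iff_mem _).mpr ha)
        obtain ⟨c, hc⟩ := hdiv b hb
        refine Ideal.mem_span_singleton'.mpr ⟨c * ↑v⁻¹, mul_left_cancel₀ hy0 ?_⟩
        rw [hc]
        calc y * (c * ↑v⁻¹ * a) = c * ↑v⁻¹ * (y * a) := by ring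
          _ = x * c * (↑v⁻¹ * ↑v) := by rw [hv]; ring
          _ = x * c := by rw [Units.inv_mul, mul_one]
      refine hd ?_
      rw [← maximalIdeal_height_eq_ringKrullDim]
      haveI : (maximalIdeal A).IsPrincipal := ⟨⟨a, hspan⟩⟩
      exact_mod_cast Ideal.height_le_one_of_isPrincipal_of_mem_minimalPrimes (maximalIdeal A) (maximalIdeal A)
        (by rw [Ideal.minimalPrimes_eq_subsingleton_self]; rfl)
    · push Not at hu
      let K := FractionRing A
      let z : K := algebraMap A K y / algebraMap A K x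
      have hxK : algebraMap A K x ≠ 0 := by simpa using hx0
      have hint : IsIntegral A z := by
        refine isIntegral_of_smul_mem_submodule (Submodule.map (Algebra.linearMap A K) (maximalIdeal A))
          ?_ ((IsNoetherian.noetherian (maximalIdeal A)).map _) z ?_
        · intro e
          have := (Submodule.eq_bot_iff _).mp e _ (Submodule.mem_map_of_mem hxm)
          exact hxK this
        · rintro _ ⟨a, ha, rfl⟩
          obtain ⟨c, hc⟩ := hdiv a ha
          refine ⟨c, fun hcu => hu a ha c hcu hc, ?_⟩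
          show algebraMap A K c = z * algebraMap A K a
          rw [div_mul_eq_mul_div, eq_div_iff hxK, ← map_mul, ← map_mul, hc, mul_comm]
      obtain ⟨w, hw⟩ := IsIntegrallyClosed.isIntegral_iff.mp hint
      refine hyx ⟨w, IsFractionRing.injective A K ?_⟩
      rw [map_mul, hw, mul_div_cancel₀ _ hxK]

  refine ⟨y, hym, fun c hc => ?_, ?_⟩
  · have h0 : (Submodule.Quotient.mk c : QuotSMulTop x A) = 0 := hyreg (by
      show y • (Submodule.Quotient.mk c : QuotSMulTop x A) = y • 0
      rw [smul_zero, ← Submodule.Quotient.mk_smul, Submodule.Quotient.mk_eq_zero,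
        Submodule.mem_smul_pointwise_iff_exists]
      obtain ⟨d, hd⟩ := hc
      exact ⟨d, trivial, hd.symm⟩)
    rw [Submodule.Quotient.mk_eq_zero, Submodule.mem_smul_pointwise_iff_exists] at h0
    obtain ⟨d, -, hd⟩ := h0
    exact ⟨d, hd.symm⟩
  · let I : Ideal A := Ideal.span {x, y}
    haveI : IsArtinianRing (A ⧸ I) := by
      haveI : Ring.KrullDimLE 0 (A ⧸ I) := Ring.KrullDimLE.mk₀ fun q hq => by
        have h := hm2 (q.comap (Ideal.Quotient.mk I)) inferInstance
          (by rw [Ideal.mem_comap, Ideal.Quotient.eq_zero_iff_mem.2 (Ideal.subset_span (by simp))]; exact q.zero_mem)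
          fun P hP e => hymin P hP (by
            rw [e, Ideal.mem_comap, Ideal.Quotient.eq_zero_iff_mem.2 (Ideal.subset_span (by simp))]; exact q.zero_mem)
        rw [← Ideal.map_comap_of_surjective (Ideal.Quotient.mk I) Ideal.Quotient.mk_surjective q, h]
        refine (Ideal.map_eq_top_or_isMaximal_of_surjective _ Ideal.Quotient.mk_surjective
          (IsLocalRing.maximalIdeal.isMaximal A)).resolve_left fun ht => ?_
        rw [← h, Ideal.map_comap_of_surjective (Ideal.Quotient.mk I) Ideal.Quotient.mk_surjective q] at ht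
        exact hq.ne_top ht
      exact IsNoetherianRing.isArtinianRing_of_krullDimLE_zero
    haveI : IsArtinian A (A ⧸ I) := by
      haveI : RingHomSurjective (Ideal.Quotient.mk I) := ⟨Ideal.Quotient.mk_surjective⟩
      let l : (A ⧸ I) →ₛₗ[Ideal.Quotient.mk I] (A ⧸ I) :=
        { toFun := id, map_add' := fun _ _ => rfl
          map_smul' := fun r v => by
            obtain ⟨v, rfl⟩ := Ideal.Quotient.mk_surjective v
            rfl }
      exact (LinearMap.isArtinian_iff_of_bijective l Function.bijective_id).2 inferInstance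
    let π : (A ⧸ I) →ₗ[A] Qxy x y := Submodule.liftQ I
      ((Submodule.mkQ _).comp (Submodule.mkQ _)) (Ideal.span_le.2 (by
        rintro z (rfl | rfl)
        · show Submodule.Quotient.mk (Submodule.Quotient.mk z) = (0 : Qxy z y)
          rw [(Submodule.Quotient.mk_eq_zero (p := LinearMap.range (z • (LinearMap.id : A →ₗ[A] A)))).2
            ⟨1, by simp⟩, Submodule.Quotient.mk_zero]
        · show Submodule.Quotient.mk (Submodule.Quotient.mk z) = (0 : Qxy x z)
          rw [Submodule.Quotient.mk_eq_zero]
          exact ⟨Submodule.Quotient.mk 1, by rw [LinearMap.smul_apply, LinearMap.id_apply,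
            ← Submodule.Quotient.mk_smul, smul_eq_mul, mul_one]⟩))
    have hπ : Function.Surjective π := fun q => by
      obtain ⟨c, rfl⟩ := Submodule.Quotient.mk_surjective _ q
      obtain ⟨c, rfl⟩ := Submodule.Quotient.mk_surjective _ c
      exact ⟨Submodule.Quotient.mk c, rfl⟩
    exact (isFiniteLength_iff_isNoetherian_isArtinian.2 ⟨inferInstance, inferInstance⟩).of_surjective hπ

end Groth.Agent.GRVan
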