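import Groth.Agent.GRVan.Dual
import Mathlib.Algebra.Homology.DerivedCategory.FullyFaithful
import Mathlib.Algebra.Homology.DerivedCategory.TStructure

/-!
Vanishing of `Hom(Y[-1], ω)` for an extension `Y` of a finite length module by `A`.
-/

set_option autoImplicit false
set_option backward.isDefEq.respectTransparency false
set_option linter.unusedSectionVars false
set_option linter.style.haveILetI false
set_option maxHeartbeats 800000

universe u

open CategoryTheory CategoryTheory.Limits DerivedCategory Pretriangulated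

attribute [local instance] HasDerivedCategory.standard

noncomputable section

namespace Groth.Agent.GRVan

open Groth.Agent.DualCx

variable {A : Type u} [CommRing A] [IsLocalRing A] [IsNoetherianRing A] {W : Type u} [AddCommGroup W] [Module A W]

/-- the decomposition of an object with cohomology in degrees `0` and `1` -/
theorem exists_triangle_zero_one (Y : Dual.D A) [Y.IsGE 0] [Y.IsLE 1] :
    ∃ (N H : ModuleCat.{u} A) (v : (DerivedCategory.singleFunctor (ModuleCat.{u} A) 0).obj N ⟶ Y)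
      (u : Y ⟶ ((DerivedCategory.singleFunctor (ModuleCat.{u} A) 0).obj H)⟦(-1 : ℤ)⟧)
      (w : ((DerivedCategory.singleFunctor (ModuleCat.{u} A) 0).obj H)⟦(-1 : ℤ)⟧ ⟶
        ((DerivedCategory.singleFunctor (ModuleCat.{u} A) 0).obj N)⟦(1 : ℤ)⟧),
      Triangle.mk v u w ∈ distinguishedTriangles ∧ Nonempty (N ≃ₗ[A] Dual.HD A Y 0) ∧
        Nonempty (H ≃ₗ[A] Dual.HD A Y 1) := by
  let t : Triangulated.TStructure (Dual.D A) := TStructure.t
  let Hm := DerivedCategory.homologyFunctor (ModuleCat.{u} A)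
  let L := (t.truncLE 0).obj Y
  let R := (t.truncGE 1).obj Y
  have hT := t.triangleLEGE_distinguished 0 1 rfl Y
  haveI : L.IsLE 0 := t.isLE_truncLE_obj Y 0 0 le_rfl
  haveI : R.IsGE 1 := t.isGE_truncGE_obj Y 1 1 le_rfl
  haveI : L.IsGE 0 := (isGE_iff _ _).2 fun i hi =>
    (DerivedCategory.HomologySequence.exact₁ _ hT (i - 1) i (by omega)).isZero_X₂
      ((DerivedCategory.isZero_of_isGE R 1 (i - 1) (by omega)).eq_of_src _ _)
      ((DerivedCategory.isZero_of_isGE Y 0 i hi).eq_of_tgt _ _)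
  haveI : R.IsLE 1 := (isLE_iff _ _).2 fun i hi =>
    (DerivedCategory.HomologySequence.exact₃ _ hT i (i + 1) rfl).isZero_X₂
      ((DerivedCategory.isZero_of_isLE Y 1 i hi).eq_of_src _ _)
      ((DerivedCategory.isZero_of_isLE L 0 (i + 1) (by omega)).eq_of_tgt _ _)
  obtain ⟨N, ⟨eL⟩⟩ := DerivedCategory.exists_iso_singleFunctor_obj_of_isGE_of_isLE L 0
  obtain ⟨H, ⟨eR₀⟩⟩ := DerivedCategory.exists_iso_singleFunctor_obj_of_isGE_of_isLE R 1
  let eR : R ≅ ((DerivedCategory.singleFunctor (ModuleCat.{u} A) 0).obj H)⟦(-1 : ℤ)⟧ :=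
    eR₀ ≪≫ (((SingleFunctors.shiftIso (DerivedCategory.singleFunctors (ModuleCat.{u} A)) (-1) 1 0 (by omega)).app H)).symm
  haveI h0 : IsIso ((Hm 0).map ((t.truncLEι 0).app Y)) := by
    haveI : Mono ((Hm 0).map ((t.truncLEι 0).app Y)) :=
      (DerivedCategory.HomologySequence.exact₁ _ hT (-1) 0 (by omega)).mono_g
        ((DerivedCategory.isZero_of_isGE R 1 (-1) (by omega)).eq_of_src _ _)
    haveI : Epi ((Hm 0).map ((t.truncLEι 0).app Y)) :=
      (DerivedCategory.HomologySequence.exact₂ _ hT 0).epi_f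
        ((DerivedCategory.isZero_of_isGE R 1 0 (by omega)).eq_of_tgt _ _)
    exact isIso_of_mono_of_epi _
  haveI h1 : IsIso ((Hm 1).map ((t.truncGEπ 1).app Y)) := by
    haveI : Mono ((Hm 1).map ((t.truncGEπ 1).app Y)) :=
      (DerivedCategory.HomologySequence.exact₂ _ hT 1).mono_g
        ((DerivedCategory.isZero_of_isLE L 0 1 (by omega)).eq_of_src _ _)
    haveI : Epi ((Hm 1).map ((t.truncGEπ 1).app Y)) :=
      (DerivedCategory.HomologySequence.exact₃ _ hT 1 2 (by omega)).epi_f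
        ((DerivedCategory.isZero_of_isLE L 0 2 (by omega)).eq_of_tgt _ _)
    exact isIso_of_mono_of_epi _
  refine ⟨N, H, eL.inv ≫ (t.truncLEι 0).app Y, (t.truncGEπ 1).app Y ≫ eR.hom,
    eR.inv ≫ ((t.triangleLEGE 0 1 rfl).obj Y).mor₃ ≫ eL.hom⟦(1 : ℤ)⟧', ?_, ⟨?_⟩, ⟨?_⟩⟩
  · refine isomorphic_distinguished _ hT _ (Triangle.isoMk _ _ eL.symm (Iso.refl _) eR.symm ?_ ?_ ?_)
    · exact (Category.comp_id _).trans rfl
    · show ((t.truncGEπ 1).app Y ≫ eR.hom) ≫ eR.inv = 𝟙 _ ≫ _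
      rw [Category.assoc, Iso.hom_inv_id, Category.comp_id, Category.id_comp]
      rfl
    · show (eR.inv ≫ _ ≫ eL.hom⟦(1 : ℤ)⟧') ≫ eL.inv⟦(1 : ℤ)⟧' = eR.inv ≫ _
      rw [Category.assoc, Category.assoc, ← Functor.map_comp, Iso.hom_inv_id, CategoryTheory.Functor.map_id]
      erw [Category.comp_id]
  · exact (((DerivedCategory.singleFunctorCompHomologyFunctorIso (ModuleCat.{u} A) 0).app N).symm ≪≫
      (Hm 0).mapIso eL.symm ≪≫ asIso ((Hm 0).map ((t.truncLEι 0).app Y))).toLinearEquiv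
  · exact (((DerivedCategory.singleFunctorCompHomologyFunctorIso (ModuleCat.{u} A) 1).app H).symm ≪≫
      (Hm 1).mapIso eR₀.symm ≪≫ (asIso ((Hm 1).map ((t.truncGEπ 1).app Y))).symm).toLinearEquiv

variable (hω : Dual.IsDualizing A (Dual.inD A W)) {x y : A} (hx : x ∈ IsLocalRing.maximalIdeal A)
  (hy : y ∈ IsLocalRing.maximalIdeal A) (hx0 : ∀ c : A, x * c = 0 → c = 0)
  (hy0 : ∀ c : A, x ∣ y * c → x ∣ c) (hQ : IsFiniteLength A (Qxy x y))

include hω hx hy hx0 hy0 hQ in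
/-- the dual statement of Grauert–Riemenschneider vanishing -/
theorem hom_shift_subsingleton (Y : Dual.D A) [Y.IsGE 0] [Y.IsLE 1] (e0 : Nonempty (A ≃ₗ[A] Dual.HD A Y 0))
    (hH : IsFiniteLength A (Dual.HD A Y 1))
    (hker : Subsingleton ((Dual.inD A (A ⧸ IsLocalRing.maximalIdeal A))⟦(-1 : ℤ)⟧ ⟶ Y)) :
    Subsingleton (Y⟦(-1 : ℤ)⟧ ⟶ Dual.inD A W) := by
  obtain ⟨N, H, v, u, w, hT, ⟨eN⟩, ⟨eH⟩⟩ := exists_triangle_zero_one Y
  obtain ⟨e0⟩ := e0
  let SF := DerivedCategory.singleFunctor (ModuleCat.{u} A) 0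
  let cN : Dual.inD A A ≅ SF.obj N := SF.mapIso (e0.trans eN.symm).toModuleIso
  -- the class `H ⟶ A[2]`
  let d := (shiftFunctorAdd' (Dual.D A) (1 : ℤ) 1 2 (by norm_num)).app (Dual.inD A A)
  let a := (shiftFunctorCompIsoId (Dual.D A) (-1 : ℤ) 1 (by norm_num)).app (SF.obj H)
  let e : Dual.inD A H ⟶ (Dual.inD A A)⟦(2 : ℤ)⟧ := a.inv ≫ (w ≫ cN.inv⟦(1 : ℤ)⟧')⟦(1 : ℤ)⟧' ≫ d.inv
  have he : ∀ z : (A ⧸ IsLocalRing.maximalIdeal A) →ₗ[A] H, SF.map (ModuleCat.ofHom z) ≫ e = 0 → z = 0 := by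
    intro z hz
    have h1 : (SF.map (ModuleCat.ofHom z))⟦(-1 : ℤ)⟧' ≫ w = 0 := by
      rw [← cancel_mono (cN.inv⟦(1 : ℤ)⟧'), zero_comp]
      apply (shiftFunctor (Dual.D A) (1 : ℤ)).map_injective
      rw [Functor.map_zero]
      have hn := (shiftFunctorCompIsoId (Dual.D A) (-1 : ℤ) 1 (by norm_num)).inv.naturality (SF.map (ModuleCat.ofHom z))
      rw [← cancel_epi ((shiftFunctorCompIsoId (Dual.D A) (-1 : ℤ) 1 (by norm_num)).inv.app _), comp_zero,
        ← cancel_mono d.inv, zero_comp, Category.assoc, Functor.map_comp, Functor.map_comp]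
      simp only [Category.assoc]
      refine Eq.trans ?_ hz
      simp only [e, a, Category.assoc, Functor.map_comp, Iso.app_inv]
      erw [← reassoc_of% hn]
    obtain ⟨q, hq⟩ := Triangle.coyoneda_exact₃ _ hT ((SF.map (ModuleCat.ofHom z))⟦(-1 : ℤ)⟧') h1
    have h2 : (SF.map (ModuleCat.ofHom z))⟦(-1 : ℤ)⟧' = 0 := by
      rw [hq, @Subsingleton.elim _ hker q 0, zero_comp]
    have h3 : SF.map (ModuleCat.ofHom z) = 0 := (shiftFunctor (Dual.D A) (-1 : ℤ)).map_injective (by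
      rw [h2, Functor.map_zero])
    exact congrArg ModuleCat.Hom.hom (SF.map_injective (h3.trans (Functor.map_zero _ _ _).symm))
  have hsurj := pairMap_surjective hω hx hy hx0 hy0 hQ (eH.symm.isFiniteLength hH) e he
  -- every map on `Y` vanishes
  suffices hY : ∀ f : Y ⟶ (Dual.inD A W)⟦(1 : ℤ)⟧, f = 0 by
    refine subsingleton_of_forall_eq 0 fun φ => (shiftFunctor (Dual.D A) (1 : ℤ)).map_injective ?_
    rw [Functor.map_zero, ← cancel_epi ((shiftFunctorCompIsoId (Dual.D A) (-1 : ℤ) 1 (by norm_num)).inv.app Y),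
      comp_zero]
    exact hY _
  intro f
  obtain ⟨f₁, rfl⟩ := Triangle.yoneda_exact₂ _ hT f (by
    show v ≫ f = 0
    rw [← cancel_epi cN.hom, comp_zero]
    exact @Subsingleton.elim _ (subsingleton_self (W := W) one_ne_zero) _ _)
  let b := (shiftFunctorAdd' (Dual.D A) (1 : ℤ) 1 2 (by norm_num)).app (Dual.inD A W)
  obtain ⟨g, hg⟩ := hsurj (a.inv ≫ f₁⟦(1 : ℤ)⟧' ≫ b.inv)
  have hf₁ : f₁ = w ≫ (cN.inv ≫ g)⟦(1 : ℤ)⟧' := by
    apply (shiftFunctor (Dual.D A) (1 : ℤ)).map_injective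
    rw [← cancel_epi a.inv, ← cancel_mono b.inv]
    simp only [Category.assoc]
    refine hg.symm.trans ?_
    simp only [pairMap, LinearMap.coe_mk, AddHom.coe_mk, e, Category.assoc, Functor.map_comp, d, b, Iso.app_inv]
    congr 3
    exact ((shiftFunctorAdd' (Dual.D A) (1 : ℤ) 1 2 (by norm_num)).inv.naturality g).symm
  show u ≫ f₁ = 0
  rw [hf₁, ← Category.assoc]
  erw [comp_distTriang_mor_zero₂₃ _ hT, zero_comp]

end Groth.Agent.GRVan
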