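import Groth.Agent.GRVan.Ring
import Groth.Agent.GRVan.Pair
import Groth.Agent.DCohShriek.DualModule
import Groth.Agent.DCohShriek.AdjointShift
import Groth.Agent.ModLeray1.Support
import Groth.Agent.ModLeray1.Basic
import Groth.Agent.RatBlow.Base
import Groth.Agent.FibVan.Main
import Groth.Agent.W7Fib.Birat
import Groth.Agent.PtBlow.Birat
import Groth.Agent.InjHull.Matlis
import Groth.Agent.RefStalk.Coherent
import Groth.Agent.QC.Localisation

/-!
Cohomology of the structure sheaf of a modification as an object of `D(A)`, and the dualizing module.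
-/

set_option autoImplicit false
set_option backward.isDefEq.respectTransparency false
set_option backward.isDefEq.respectTransparency.types false
set_option linter.style.haveILetI false
set_option linter.unusedSectionVars false
set_option synthInstance.maxHeartbeats 100000
set_option maxHeartbeats 1000000

universe u

open CategoryTheory CategoryTheory.Limits Pretriangulated AlgebraicGeometry Opposite

attribute [local instance] HasDerivedCategory.standard

noncomputable section

namespace Groth.Agent.GRVan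

open Groth.Agent.DCohShriek Groth.Agent.PerfGen

variable {A : Type u} [CommRing A] [IsDomain A] [IsLocalRing A] [IsNoetherianRing A] [IsIntegrallyClosed A]
  {X : Scheme.{u}} [X.Over (Spec (CommRingCat.of A))] [IsProper (X ↘ Spec (CommRingCat.of A))] [IsIntegral X]


variable (hdim : ringKrullDim A = 2)
  (hbir : ∃ U : (Spec (CommRingCat.of A)).Opens, (U : Set (Spec (CommRingCat.of A))).Nonempty ∧ IsIso ((X ↘ Spec (CommRingCat.of A)) ∣_ U))

include hdim hbir in
theorem subsingleton_hh_two (M : X.Modules) (hM : Coh.IsQCoh M) (p : ℕ) (hp : 1 < p) :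
    Subsingleton (Coh.HH X M p) := by
  obtain ⟨U, hU, hUi⟩ := hbir
  haveI := hUi
  haveI := hM
  have hfib := W7Fib.dim_closedFibre_le (X ↘ Spec (CommRingCat.of A)) U hU (d := 1) (le_of_eq (hdim.trans rfl))
  exact FibVan.subsingleton_hh_qcoh 1 hfib M p hp

include hdim in
theorem exists_ne_zero_mem : ∃ c ∈ IsLocalRing.maximalIdeal A, c ≠ 0 :=
  Submodule.exists_mem_ne_zero_of_ne_bot fun e => by
    rw [ringKrullDim_eq_zero_of_isField (IsLocalRing.isField_iff_maximalIdeal_eq.2 e)] at hdim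
    exact absurd hdim (by decide)

include hdim hbir in
/-- higher cohomology is killed by powers of every element of the maximal ideal -/
theorem exists_kills {c : A} (hc : c ∈ IsLocalRing.maximalIdeal A) (M : X.Modules) (hM : Coh.IsQCoh M) (q : ℕ)
    (x : Coh.HH X M (q + 1)) : ∃ n : ℕ, c ^ n • x = 0 := by
  haveI : IsNoetherian (Spec (CommRingCat.of A)) := inferInstance
  haveI : HasInjectiveResolutions X.Modules := DQPush.hasInj X
  obtain ⟨e, he⟩ := W7FlatBC.exists_rpush_top A M hM (q + 1)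
  let R := (Coh.Rpush (X ↘ Spec (CommRingCat.of A)) (q + 1)).obj M
  haveI : R.IsQuasicoherent := RPushQC.isQCoh_rpush _ M hM (q + 1)
  let b : Γ(Spec (CommRingCat.of A), ⊤) := (Scheme.ΓSpecIso (CommRingCat.of A)).inv c
  have hs : QC.res R ((Spec (CommRingCat.of A)).basicOpen_le b) (e.symm x) = 0 := by
    refine ModLeray1.section_rpush_eq_zero (X ↘ Spec (CommRingCat.of A)) M hM q _ _ fun z hz hzc => ?_
    have hzcl : IsClosed ({z} : Set (Spec (CommRingCat.of A))) := ((PtBlow.compl_isoLocus (X ↘ Spec (CommRingCat.of A))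
      RatBlow.isNormal_spec ((PrimeSpectrum.topologicalKrullDim_eq_ringKrullDim A).le.trans hdim.le) hbir).2 z hzc).1
    have hzm : z = IsLocalRing.closedPoint A :=
      ((IsLocalRing.specializes_closedPoint z).mem_closed hzcl (Set.mem_singleton z)).symm
    have hb : (Spec (CommRingCat.of A)).basicOpen b = PrimeSpectrum.basicOpen c :=
      AlgebraicGeometry.basicOpen_eq_of_affine _
    rw [hb] at hz
    rw [hzm] at hz
    exact hz hc
  haveI : CompactSpace (Spec (CommRingCat.of A)) := inferInstance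
  obtain ⟨n, hn⟩ := QC.exists_pow_smul_eq_zero_of_isCompact (M := R) (W := ⊤) isCompact_univ b (e.symm x) hs
  refine ⟨n, ?_⟩
  have h := he (c ^ n) (e.symm x)
  rw [AddEquiv.apply_symm_apply, map_pow] at h
  rw [← h]
  exact (congrArg e hn).trans (map_zero e)

variable [DCoh.HasRpush (X ↘ Spec (CommRingCat.of A))]

/-- the cohomology of a model of `Rf_* O` -/
theorem nonempty_hd_equiv {Y : Dual.D A} (e : (DCoh.tildeD (CommRingCat.of A)).obj Y ≅
    (DCoh.Rpush (X ↘ Spec (CommRingCat.of A))).obj (DCoh.inD X (Coh.structureModule X))) (p : ℕ) :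
    Nonempty (Dual.HD A Y (p : ℤ) ≃ₗ[A] Coh.HH X (Coh.structureModule X) p) := by
  haveI := DQPush.hasInj X
  haveI : HasInjectiveResolutions (ModSite.Mod X.sheaf) := DQPush.hasInj X
  haveI : SiteCmp.HasRpushD (ModSite.RMor.ofScheme (X ↘ Spec (CommRingCat.of A))) := ‹DCoh.HasRpush (X ↘ Spec (CommRingCat.of A))›
  obtain ⟨e₁⟩ := RPushSite.nonempty_homology_single (ModSite.RMor.ofScheme (X ↘ Spec (CommRingCat.of A))) (Coh.structureModule X) p
  obtain ⟨e₂, he₂⟩ := W7FlatBC.exists_rpush_top A (Coh.structureModule X) (QC.isQCoh_unit X) p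
  let N := (DerivedCategory.homologyFunctor (ModuleCat.{u} A) (p : ℤ)).obj Y
  let i : (tilde.functor (CommRingCat.of A)).obj N ≅ (Coh.Rpush (X ↘ Spec (CommRingCat.of A)) p).obj (Coh.structureModule X) :=
    (DQCoh.hdTildeIso (R := CommRingCat.of A) Y p).symm ≪≫
      (DerivedCategory.homologyFunctor (Spec (CommRingCat.of A)).Modules (p : ℤ)).mapIso e ≪≫ e₁
  let j : N ≅ (moduleSpecΓFunctor (R := CommRingCat.of A)).obj
      ((Coh.Rpush (X ↘ Spec (CommRingCat.of A)) p).obj (Coh.structureModule X)) :=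
    (tilde.toTildeΓNatIso (R := CommRingCat.of A)).app N ≪≫ (moduleSpecΓFunctor (R := CommRingCat.of A)).mapIso i
  let k : (moduleSpecΓFunctor (R := CommRingCat.of A)).obj ((Coh.Rpush (X ↘ Spec (CommRingCat.of A)) p).obj (Coh.structureModule X)) ≃ₗ[A]
      Coh.HH X (Coh.structureModule X) p :=
    { e₂ with map_smul' := fun a v => he₂ a v }
  exact ⟨j.toLinearEquiv.trans k⟩

include hbir in
theorem nonempty_hh_zero : Nonempty (A ≃ₗ[A] Coh.HH X (Coh.structureModule X) 0) := by
  obtain ⟨e, he⟩ := CohFinite.exists_zero_equiv A (Coh.structureModule X)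
  let one : Coh.HH X (Coh.structureModule X) 0 := e.symm (show Γ(Coh.structureModule X, ⊤) from (1 : Γ(X, ⊤)))
  refine ⟨LinearEquiv.ofBijective (LinearMap.toSpanSingleton A _ one) ?_⟩
  have h := RatBlow.el_top_bijective (X ↘ Spec (CommRingCat.of A)) hbir
  have hcomp : (fun a : A => e (a • one)) = fun a => (RatBlow.el (X ↘ Spec (CommRingCat.of A)) (⊤ : X.Opens) a : Γ(X, ⊤)) := funext fun a => by
    rw [he, AddEquiv.apply_symm_apply]
    refine (mul_one (show Γ(X, ⊤) from Coh.toGlobal (X ↘ Spec (CommRingCat.of A)) a)).trans ?_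
    exact (QC.resO_self le_rfl _).symm
  have h2 : Function.Bijective fun a : A => e (a • one) := by rw [hcomp]; exact h
  exact (Function.Bijective.of_comp_iff' e.bijective _).1 h2

variable {hf : DCoh.RpushPreservesQCoh (X ↘ Spec (CommRingCat.of A))} {a : DCoh.DQCoh (Spec (CommRingCat.of A)) ⥤ DCoh.DQCoh X}
  (adj : DCoh.RpushQ (X ↘ Spec (CommRingCat.of A)) hf ⊣ a) (hn : Pi1.IsNormalScheme X)
  {W : Type u} [AddCommGroup W] [Module A W] (hω : Dual.IsDualizing A (Dual.inD A W))
  (hker : Subsingleton (((DCoh.tildeD (CommRingCat.of A)).obj (Dual.inD A (IsLocalRing.ResidueField A)))⟦(-1 : ℤ)⟧ ⟶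
    (DCoh.Rpush (X ↘ Spec (CommRingCat.of A))).obj (DCoh.inD X (Coh.structureModule X))))

theorem isFiniteLength_of_kills {M : Type u} [AddCommGroup M] [Module A M] [Module.Finite A M]
    (h : ∀ c ∈ IsLocalRing.maximalIdeal A, ∀ v : M, ∃ n : ℕ, c ^ n • v = 0) : IsFiniteLength A M := by
  classical
  have hr : IsLocalRing.maximalIdeal A ≤ (Module.annihilator A M).radical := fun c hc => by
    obtain ⟨T, hT⟩ := Module.Finite.fg_top (R := A) (M := M)
    choose n hn using h c hc
    refine ⟨T.sup n, Module.mem_annihilator.2 fun v => ?_⟩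
    have hv : v ∈ Submodule.span A (T : Set M) := hT ▸ Submodule.mem_top
    induction hv using Submodule.span_induction with
    | mem v hv =>
      obtain ⟨k, hk⟩ := Nat.exists_eq_add_of_le (Finset.le_sup (f := n) hv)
      rw [hk, add_comm, pow_add, mul_smul, hn, smul_zero]
    | zero => exact smul_zero _
    | add v w _ _ hv hw => rw [smul_add, hv, hw, add_zero]
    | smul r v _ hv => rw [smul_comm, hv, smul_zero]
  obtain ⟨N, hN⟩ := Ideal.exists_pow_le_of_le_radical_of_fg hr (IsNoetherian.noetherian _)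
  exact InjHull.isFiniteLength_of_pow_smul_eq_zero (IsLocalRing.maximalIdeal A) N M inferInstance fun a ha v =>
    Module.mem_annihilator.1 (hN ha) v

include hdim hω in
theorem torsion_free {c : A} (hc : c ≠ 0) (w : Dual.HD A (Dual.inD A W) 0) (h : c • w = 0) : w = 0 := by
  by_cases hu : IsUnit c
  · exact hu.smul_eq_zero.1 h
  have hcm : c ∈ IsLocalRing.maximalIdeal A := hu
  have hc0 : ∀ d : A, c * d = 0 → d = 0 := fun d hd => (mul_eq_zero.1 hd).resolve_left hc
  obtain ⟨y, hy, hy0, hQ⟩ := exists_pair hdim hcm hc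
  obtain ⟨hk, -⟩ := residue_two hω c y hcm hy hc0 hy0 hQ
  haveI h1 : Subsingleton (DualCx.T (Dual.inD A W) (A ⧸ LinearMap.range (c • (LinearMap.id : A →ₗ[A] A))) 0) := by
    haveI := DualCx.finite_T hω (A ⧸ LinearMap.range (c • (LinearMap.id : A →ₗ[A] A))) 0
    haveI : Subsingleton (DualCx.T (Dual.inD A W) (Qxy c y) 1) := subsingleton_of_finiteLength (hk 1 (by norm_num)) hQ
    refine (Submodule.subsingleton_iff A).1 (subsingleton_of_bot_eq_top (Eq.symm ?_))
    refine Submodule.eq_bot_of_le_smul_of_le_jacobson_bot (IsLocalRing.maximalIdeal A) _ Module.Finite.fg_top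
      (fun t _ => ?_) (le_of_eq (IsLocalRing.jacobson_eq_maximalIdeal (⊥ : Ideal A) bot_ne_top).symm)
    obtain ⟨v, rfl⟩ := (ses_y c y hy0).exact_left (show (0 : ℤ) + 1 = 1 by norm_num) t (Subsingleton.elim _ _)
    rw [DualCx.pre_smul_id]
    exact Submodule.smul_mem_smul hy trivial
  let t := (DualCx.homEquiv (Dual.inD A W) 0).symm w
  have ht : DualCx.pre (Dual.inD A W) 0 (c • (LinearMap.id : A →ₗ[A] A)) t = 0 := by
    rw [DualCx.pre_smul_id, ← map_smul, h, map_zero]
  obtain ⟨v, hv⟩ := (ses_x c hc0).exact_mid t ht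
  rw [@Subsingleton.elim _ h1 v 0, map_zero] at hv
  exact (LinearEquiv.map_eq_zero_iff _).1 hv.symm

include hdim hbir hω adj in
/-- `a(ω)` lives in degrees `≥ 0` -/
theorem isGE_adjoint : (a.obj ((tildeQ A).obj (Dual.inD A W))).obj.IsGE 0 := by
  haveI := isNoetherian_of_proper (X ↘ Spec (CommRingCat.of A))
  refine (DerivedCategory.isGE_iff _ _).2 fun i hi => ?_
  by_cases hi' : i < -((1 : ℕ) : ℤ)
  · exact isZero_HD_adjoint adj 1 (subsingleton_hh_two hdim hbir) (Dual.inD A W) i hi'
  obtain rfl : i = -((1 : ℕ) : ℤ) := by omega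
  let M := DCoh.HD (a.obj ((tildeQ A).obj (Dual.inD A W))).obj (-((1 : ℕ) : ℤ))
  have hM : Coh.IsQCoh M := (a.obj ((tildeQ A).obj (Dual.inD A W))).property _
  obtain ⟨t, ht⟩ := exists_trace adj 1 (subsingleton_hh_two hdim hbir) (Dual.inD A W) hM
  obtain ⟨c, hcm, hc0⟩ := exists_ne_zero_mem hdim
  have hz : ∀ (ψ : Coh.HH X M 1 →ₗ[A] Dual.HD A (Dual.inD A W) 0), ψ = 0 := fun ψ => LinearMap.ext fun x => by
    obtain ⟨n, hn⟩ := exists_kills hdim hbir hcm M hM 0 x
    refine torsion_free hdim hω (pow_ne_zero n hc0) (ψ x) ?_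
    rw [← map_smul, hn, map_zero]
  obtain ⟨φ, -, hu⟩ := ht M hM 0
  have hany : ∀ φ' : M ⟶ M, φ' = φ := fun φ' => hu φ' fun x => by
    have h := (LinearMap.congr_fun (hz (t.comp (CohFinite.hhMap A φ' 1))) x).symm
    exact h
  exact (IsZero.iff_id_eq_zero M).2 ((hany (𝟙 M)).trans (hany 0).symm)

include hdim hbir hω adj hker in
/-- **`H¹(X, ω_X) = 0`** -/
theorem subsingleton_hh1 :
    Subsingleton (Coh.HH X (DCoh.HD (a.obj ((tildeQ A).obj (Dual.inD A W))).obj 0) 1) := by
  haveI := isNoetherian_of_proper (X ↘ Spec (CommRingCat.of A))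
  haveI := additive_rpush (X ↘ Spec (CommRingCat.of A))
  let K := (a.obj ((tildeQ A).obj (Dual.inD A W))).obj
  haveI : K.IsGE 0 := isGE_adjoint hdim hbir adj hω
  let O := DCoh.inD X (Coh.structureModule X)
  have hO : DCoh.IsQCohD O := isQCohD_inD (QC.isQCoh_unit X)
  -- the ring side
  obtain ⟨Y, ⟨eY⟩⟩ := ((DQCoh.tildeD_affine (R := CommRingCat.of A)).2.2 _).1 (hf O hO)
  haveI := (DQCoh.tildeD_affine (R := CommRingCat.of A)).1
  haveI := (DQCoh.tildeD_affine (R := CommRingCat.of A)).2.1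
  haveI : HasInjectiveResolutions (ModSite.Mod X.sheaf) := DQPush.hasInj X
  haveI : SiteCmp.HasRpushD (ModSite.RMor.ofScheme (X ↘ Spec (CommRingCat.of A))) := ‹DCoh.HasRpush (X ↘ Spec (CommRingCat.of A))›
  haveI : Y.IsGE 0 := (DerivedCategory.isGE_iff _ _).2 fun i hi => DQCoh.isZero_of_tilde (R := CommRingCat.of A)
    ((RPushSite.isZero_homology_single_neg (ModSite.RMor.ofScheme (X ↘ Spec (CommRingCat.of A))) (Coh.structureModule X) i hi).of_iso
      ((DQCoh.hdTildeIso (R := CommRingCat.of A) Y i).symm ≪≫ (DerivedCategory.homologyFunctor _ i).mapIso eY))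
  haveI : Y.IsLE 1 := (DerivedCategory.isLE_iff _ _).2 fun i hi => by
    obtain ⟨p, rfl⟩ : ∃ p : ℕ, i = (p : ℤ) := ⟨i.toNat, by omega⟩
    obtain ⟨e⟩ := nonempty_hd_equiv eY p
    haveI := subsingleton_hh_two hdim hbir _ (QC.isQCoh_unit X) p (by omega)
    haveI : Subsingleton (Dual.HD A Y (p : ℤ)) := e.toEquiv.subsingleton
    exact ModuleCat.isZero_of_subsingleton _
  obtain ⟨c, hc, hc0⟩ := exists_ne_zero_mem hdim
  obtain ⟨y, hy, hy0, hQ⟩ := exists_pair hdim hc hc0
  have e0 : Nonempty (A ≃ₗ[A] Dual.HD A Y 0) := by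
    obtain ⟨e₁⟩ := nonempty_hd_equiv eY 0
    obtain ⟨e₂⟩ := nonempty_hh_zero (A := A) (X := X) hbir
    exact ⟨e₂.trans e₁.symm⟩
  haveI : IsLocallyNoetherian X := LocallyOfFiniteType.isLocallyNoetherian (X ↘ Spec (CommRingCat.of A))
  haveI : CompactSpace X := QuasiCompact.compactSpace_of_compactSpace (X ↘ Spec (CommRingCat.of A))
  have hH : IsFiniteLength A (Dual.HD A Y 1) := by
    obtain ⟨e⟩ := nonempty_hd_equiv eY 1
    refine e.symm.isFiniteLength ?_
    haveI := CohFinite.finite_proper (A := A) X (Coh.structureModule X) RefStalk.isCoh_structureModule 1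
    exact isFiniteLength_of_kills (M := Coh.HH X (Coh.structureModule X) 1)
      fun c' hc' => exists_kills hdim hbir hc' _ (QC.isQCoh_unit X) 0
  let eκ := ((DCoh.tildeD (CommRingCat.of A)).commShiftIso (-1 : ℤ)).app (Dual.inD A (IsLocalRing.ResidueField A))
  have hkY : Subsingleton ((Dual.inD A (A ⧸ IsLocalRing.maximalIdeal A))⟦(-1 : ℤ)⟧ ⟶ Y) := by
    refine ⟨fun g g' => (DCoh.tildeD (CommRingCat.of A)).map_injective ?_⟩
    rw [← cancel_mono eY.hom, ← cancel_epi eκ.inv]
    exact @Subsingleton.elim _ hker _ _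
  have hG := hom_shift_subsingleton hω hc hy (fun d hd => (mul_eq_zero.1 hd).resolve_left hc0) hy0 hQ Y e0 hH hkY
  -- maps from `O[-1]`
  have hOK : Subsingleton (O ⟶ K⟦(1 : ℤ)⟧) := by
    have h1 : Subsingleton (O⟦(-1 : ℤ)⟧ ⟶ K) := by
      refine ⟨fun g g' => (tr_bijective adj (isQCohD_shift hO _) _).1 ?_⟩
      let eY' := ((DCoh.tildeD (CommRingCat.of A)).commShiftIso (-1 : ℤ)).app Y ≪≫
        (shiftFunctor (DCoh.D (Spec (CommRingCat.of A))) (-1 : ℤ)).mapIso eY ≪≫
          ((rpushShiftIso (X ↘ Spec (CommRingCat.of A)) (-1)).app O).symm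
      obtain ⟨v, hv⟩ := (DCoh.tildeD (CommRingCat.of A)).map_surjective (eY'.hom ≫ tr adj g)
      obtain ⟨v', hv'⟩ := (DCoh.tildeD (CommRingCat.of A)).map_surjective (eY'.hom ≫ tr adj g')
      rw [← cancel_epi eY'.hom]
      refine hv.symm.trans (Eq.trans ?_ hv')
      rw [@Subsingleton.elim _ hG v v']
    refine ⟨fun g g' => (shiftFunctor (DCoh.D X) (-1 : ℤ)).map_injective ?_⟩
    rw [← cancel_mono ((shiftFunctorCompIsoId (DCoh.D X) (1 : ℤ) (-1) (by norm_num)).hom.app K)]
    exact @Subsingleton.elim _ h1 _ _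
  -- the degree zero part
  let t : Triangulated.TStructure (DCoh.D X) := DerivedCategory.TStructure.t
  obtain ⟨N, ι, hι⟩ := exists_from_heart K
  haveI := hι
  haveI : IsIso ((DerivedCategory.homologyFunctor X.Modules 0).map ι) := hι
  let ωX := DCoh.HD K 0
  let eN : N ≅ ωX := ((DerivedCategory.singleFunctorCompHomologyFunctorIso X.Modules 0).app N).symm ≪≫
    asIso ((DerivedCategory.homologyFunctor X.Modules 0).map ι)
  obtain ⟨Cn, g₁, g₂, hTr⟩ := distinguished_cocone_triangle ι
  have hCn : Cn.IsGE 1 := (DerivedCategory.isGE_iff _ _).2 fun i hi => by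
    have h3 := DerivedCategory.HomologySequence.exact₃ _ hTr i (i + 1) rfl
    refine h3.isZero_X₂ ?_ ?_
    · rcases lt_or_eq_of_le (show i ≤ 0 by omega) with h | h
      · exact (DerivedCategory.isZero_of_isGE K 0 i h).eq_of_src _ _
      · subst h
        exact (cancel_epi ((DerivedCategory.homologyFunctor X.Modules 0).map ι)).1 (((Functor.map_comp _ _ _).symm.trans
          ((congrArg _ (comp_distTriang_mor_zero₁₂ _ hTr)).trans (Functor.map_zero _ _ _))).trans comp_zero.symm)
    · rcases lt_or_eq_of_le (show i ≤ 0 by omega) with h | h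
      · rcases lt_or_eq_of_le (show i + 1 ≤ 0 by omega) with h' | h'
        · exact (DerivedCategory.isZero_of_isGE ((DerivedCategory.singleFunctor X.Modules 0).obj N) 0 (i + 1) h').eq_of_tgt _ _
        · have h4 := DerivedCategory.HomologySequence.exact₁ _ hTr i (i + 1) rfl
          haveI : Mono ((DerivedCategory.homologyFunctor X.Modules (i + 1)).map ι) := by rw [h']; infer_instance
          exact (cancel_mono ((DerivedCategory.homologyFunctor X.Modules (i + 1)).map ι)).1 ((DerivedCategory.HomologySequence.δ_comp _ hTr i (i + 1) rfl).trans zero_comp.symm)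
      · subst h
        exact (DerivedCategory.isZero_of_isLE ((DerivedCategory.singleFunctor X.Modules 0).obj N) 0 (0 + 1) (by omega)).eq_of_tgt _ _
  have hON : Subsingleton (O ⟶ (DCoh.inD X N)⟦(1 : ℤ)⟧) := by
    refine subsingleton_of_forall_eq 0 fun g => ?_
    obtain ⟨z, hz⟩ := Triangle.coyoneda_exact₁ _ hTr g (@Subsingleton.elim _ hOK _ _)
    haveI : t.IsGE (Triangle.mk ι g₁ g₂).obj₃ 1 := hCn
    haveI : t.IsLE O 0 := inferInstanceAs (((DerivedCategory.singleFunctor X.Modules 0).obj _).IsLE 0)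
    have : z = 0 := t.zero z 0 1 (by omega)
    rw [hz, this, zero_comp]
  haveI : Subsingleton (Coh.HH X N 1) := (hhHomEquiv N 1).toEquiv.subsingleton
  exact (CohFinite.hhEquiv A eN 1).toEquiv.symm.subsingleton

end Groth.Agent.GRVan
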