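import Groth.Agent.DualCx.Criterion
import Groth.Agent.DualCx.Residue
import Groth.Agent.DualCx.Unique

/-!
A dualizing module in dimension two: maps from an extension of a finite length module by `A`.
-/

set_option autoImplicit false
set_option backward.isDefEq.respectTransparency false
set_option linter.unusedSectionVars false
set_option linter.style.haveILetI false
set_option maxHeartbeats 800000

universe u

open CategoryTheory CategoryTheory.Limits DerivedCategory Pretriangulated

attribute [local instance] HasDerivedCategory.standard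

noncomputable section

namespace Groth.Agent.GRVan

open Groth.Agent.DualCx

variable {A : Type u} [CommRing A]

theorem pre_add {ω : Dual.D A} {M N : Type u} [AddCommGroup M] [Module A M] [AddCommGroup N] [Module A N] {i : ℤ}
    (f g : M →ₗ[A] N) (z : T ω N i) : pre ω i (f + g) z = pre ω i f z + pre ω i g z := by
  simp only [pre_apply]
  rw [show ModuleCat.ofHom (f + g) = ModuleCat.ofHom f + ModuleCat.ofHom g from rfl, Functor.map_add,
    Preadditive.add_comp]

theorem pre_sum {ω : Dual.D A} {M N : Type u} [AddCommGroup M] [Module A M] [AddCommGroup N] [Module A N] {i : ℤ}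
    {ι : Type*} (s : Finset ι) (f : ι → (M →ₗ[A] N)) (z : T ω N i) :
    pre ω i (∑ j ∈ s, f j) z = ∑ j ∈ s, pre ω i (f j) z := by
  classical
  induction s using Finset.induction with
  | empty => rw [Finset.sum_empty, Finset.sum_empty, pre_zero]
  | insert a s ha ih => rw [Finset.sum_insert ha, Finset.sum_insert ha, pre_add, ih]

variable [IsLocalRing A] [IsNoetherianRing A] {W : Type u} [AddCommGroup W] [Module A W]
  (hω : Dual.IsDualizing A (Dual.inD A W)) (x y : A) (hx : x ∈ IsLocalRing.maximalIdeal A)
  (hy : y ∈ IsLocalRing.maximalIdeal A) (hx0 : ∀ c : A, x * c = 0 → c = 0)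
  (hy0 : ∀ c : A, x ∣ y * c → x ∣ c)

local notation "ω" => Dual.inD A W
local notation "κ" => (A ⧸ IsLocalRing.maximalIdeal A)
local notation "Q₁" => (A ⧸ LinearMap.range (x • (LinearMap.id : A →ₗ[A] A)))

abbrev Qxy : Type u :=
  (A ⧸ LinearMap.range (x • (LinearMap.id : A →ₗ[A] A))) ⧸
    LinearMap.range (y • (LinearMap.id : (A ⧸ LinearMap.range (x • (LinearMap.id : A →ₗ[A] A))) →ₗ[A] _))

local notation "Q₂" => Qxy x y

include hx0 in
theorem ses_x : SES (x • (LinearMap.id : A →ₗ[A] A)) (LinearMap.range (x • (LinearMap.id : A →ₗ[A] A))).mkQ :=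
  ses_smul x hx0

include hy0 in
theorem ses_y : SES (y • (LinearMap.id : Q₁ →ₗ[A] Q₁)) (LinearMap.range (y • (LinearMap.id : Q₁ →ₗ[A] Q₁))).mkQ :=
  ses_smul y fun q hq => by
    obtain ⟨c, rfl⟩ := Submodule.Quotient.mk_surjective _ q
    rw [← Submodule.Quotient.mk_smul, Submodule.Quotient.mk_eq_zero] at hq
    rw [Submodule.Quotient.mk_eq_zero]
    obtain ⟨d, hd⟩ := hq
    obtain ⟨e, he⟩ := hy0 c ⟨d, hd.symm⟩
    exact ⟨e, he.symm⟩

theorem subsingleton_self {i : ℤ} (hi : i ≠ 0) : Subsingleton (T ω A i) :=
  haveI : Subsingleton (Dual.HD A ω i) := ModuleCat.subsingleton_of_isZero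
    (hi.lt_or_gt.elim (fun h => DerivedCategory.isZero_of_isGE ω 0 i h) fun h => DerivedCategory.isZero_of_isLE ω 0 i h)
  (homEquiv ω i).toEquiv.subsingleton

include hx0 in
theorem subsingleton_quot₁ {i : ℤ} (hi : 2 ≤ i) : Subsingleton (T ω Q₁ i) :=
  (ses_x x hx0).subsingleton_right (i := i - 1) (subsingleton_self (by omega)) (subsingleton_self (by omega))
    (by omega)

include hy0 in
theorem delta₂_surjective {i j : ℤ} (hij : i + 1 = j) (h : Subsingleton (T ω Q₁ j)) :
    Function.Surjective ((ses_y x y hy0).delta ω hij) := fun t =>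
  (ses_y x y hy0).exact_right hij t (Subsingleton.elim _ _)

include hx0 in
theorem delta₁_surjective : Function.Surjective ((ses_x x hx0).delta ω (show (0 : ℤ) + 1 = 1 by norm_num)) :=
  fun t => (ses_x x hx0).exact_right _ t (@Subsingleton.elim _ (subsingleton_self (W := W) one_ne_zero) _ _)

theorem subsingleton_of_finiteLength {i : ℤ} (h : Subsingleton (T ω κ i)) {M : Type u} [AddCommGroup M] [Module A M]
    (hM : IsFiniteLength A M) : Subsingleton (T ω M i) := by
  induction hM with
  | of_subsingleton => exact subsingleton_of_subsingleton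
  | @of_simple_quotient M _ _ N _ _ ih =>
    refine (ses_quot N).subsingleton_mid ih ?_
    obtain ⟨q, hq, ⟨e⟩⟩ := (isSimpleModule_iff_quot_maximal (R := A) (M := M ⧸ N)).1 inferInstance
    rw [IsLocalRing.eq_maximalIdeal hq] at e
    exact (DualCx.subsingleton_congr e).2 h

variable (hQ : IsFiniteLength A (Qxy x y))

include hω hx hy hx0 hy0 hQ in
/-- `Hom(k, ω[i])` is concentrated in degree two. -/
theorem residue_two : (∀ i : ℤ, i ≠ 2 → Subsingleton (T ω κ i)) ∧ Nonempty (T ω κ 2 ≃ₗ[A] κ) := by
  obtain ⟨R⟩ := nonempty_rep hω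
  obtain ⟨n, hn, e⟩ := residue_spec hω (IsLocalRing.maximalIdeal A) R
  suffices n = 2 by subst this; exact ⟨hn, e⟩
  have hTfin : ∀ (M : Type u) [AddCommGroup M] [Module A M] [Module.Finite A M] (i : ℤ), Module.Finite A (T ω M i) :=
    fun M _ _ _ i => finite_T hω M i
  rcases lt_trichotomy n 2 with h | h | h
  · -- `T(Q₂, 2)` would vanish
    exfalso
    have h2 : Subsingleton (T ω Q₂ 2) := subsingleton_T_of_residue hTfin (d := n) (fun i hi => hn i hi.ne') Q₂ h
    haveI := hTfin Q₁ 1
    haveI := hTfin A 0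
    have h1 : Subsingleton (T ω Q₁ 1) := by
      refine (Submodule.subsingleton_iff A).1 (subsingleton_of_bot_eq_top (Eq.symm ?_))
      refine Submodule.eq_bot_of_le_smul_of_le_jacobson_bot (IsLocalRing.maximalIdeal A) _ Module.Finite.fg_top
        (fun t _ => ?_) (le_of_eq (IsLocalRing.jacobson_eq_maximalIdeal (⊥ : Ideal A) bot_ne_top).symm)
      obtain ⟨v, rfl⟩ := (ses_y x y hy0).exact_left (show (1 : ℤ) + 1 = 2 by norm_num) t (Subsingleton.elim _ _)
      rw [pre_smul_id]
      exact Submodule.smul_mem_smul hy trivial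
    have h0 : Subsingleton (T ω A 0) := by
      refine (Submodule.subsingleton_iff A).1 (subsingleton_of_bot_eq_top (Eq.symm ?_))
      refine Submodule.eq_bot_of_le_smul_of_le_jacobson_bot (IsLocalRing.maximalIdeal A) _ Module.Finite.fg_top
        (fun t _ => ?_) (le_of_eq (IsLocalRing.jacobson_eq_maximalIdeal (⊥ : Ideal A) bot_ne_top).symm)
      obtain ⟨v, rfl⟩ := (ses_x x hx0).exact_left (show (0 : ℤ) + 1 = 1 by norm_num) t (Subsingleton.elim _ _)
      rw [pre_smul_id]
      exact Submodule.smul_mem_smul hx trivial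
    haveI : Subsingleton W :=
      (((DerivedCategory.singleFunctorCompHomologyFunctorIso (ModuleCat.{u} A) 0).app (ModuleCat.of A W)).toLinearEquiv.symm.toEquiv.trans
        (homEquiv ω 0).symm.toEquiv).subsingleton
    have hz : IsZero (ω) := Functor.map_isZero _ (ModuleCat.isZero_of_subsingleton _)
    exact zero_ne_one (hω.toEnd_bijective.1 (hz.eq_of_src _ _) : (0 : A) = 1)
  · exact h
  · exfalso
    -- `T(k, n) = 0` for `n > 2`
    obtain ⟨e⟩ := e
    haveI : Subsingleton (T ω Q₂ n) := by
      have h1 := subsingleton_quot₁ (W := W) x hx0 (i := n - 1) (by omega)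
      have h2 := subsingleton_quot₁ (W := W) x hx0 (i := n) (by omega)
      exact (ses_y x y hy0).subsingleton_right h1 h2 (by omega)
    -- surjection `Q₂ → k` and the next degree
    let π : Q₂ →ₗ[A] κ := Submodule.liftQ _ (Submodule.liftQ _ (IsLocalRing.maximalIdeal A).mkQ (by
        rintro _ ⟨c, rfl⟩; exact (Submodule.Quotient.mk_eq_zero _).2 (Ideal.mul_mem_right c _ hx))) (by
        rintro _ ⟨c, rfl⟩
        obtain ⟨c, rfl⟩ := Submodule.Quotient.mk_surjective _ c
        exact (Submodule.Quotient.mk_eq_zero _).2 (Ideal.mul_mem_right c _ hy))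
    have hπ : Function.Surjective π := fun q => by
      obtain ⟨c, rfl⟩ := Submodule.Quotient.mk_surjective _ q
      exact ⟨Submodule.Quotient.mk (Submodule.Quotient.mk c), rfl⟩
    have hS : SES (LinearMap.ker π).subtype π := ⟨Submodule.subtype_injective _, LinearMap.exact_subtype_ker_map π, hπ⟩
    haveI hK : Subsingleton (T ω ↥(LinearMap.ker π) (n - 1)) :=
      subsingleton_of_finiteLength (hn (n - 1) (by omega)) ((hQ.of_injective (f := (LinearMap.ker π).subtype) (Submodule.subtype_injective _)))
    have : Subsingleton (T ω κ n) := hS.subsingleton_right hK inferInstance (by omega)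
    haveI := e.symm.toEquiv.subsingleton
    exact false_of_nontrivial_of_subsingleton κ

end Groth.Agent.GRVan
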