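import Groth.Agent.GRVan.Scheme
import Groth.Agent.DQCoh.AffinePerf

/-!
The trace in degree zero when `H¹(X, O)` vanishes.
-/

set_option autoImplicit false
set_option backward.isDefEq.respectTransparency false
set_option backward.isDefEq.respectTransparency.types false
set_option linter.style.haveILetI false
set_option linter.unusedSectionVars false
set_option synthInstance.maxHeartbeats 100000
set_option maxHeartbeats 1000000

universe u

open CategoryTheory CategoryTheory.Limits Pretriangulated AlgebraicGeometry Opposite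

attribute [local instance] HasDerivedCategory.standard

noncomputable section

namespace Groth.Agent.GRVan

open Groth.Agent.DCohShriek Groth.Agent.PerfGen

variable {A : Type u} [CommRing A] [IsDomain A] [IsLocalRing A] [IsNoetherianRing A] [IsIntegrallyClosed A]
  {X : Scheme.{u}} [X.Over (Spec (CommRingCat.of A))] [IsProper (X ↘ Spec (CommRingCat.of A))] [IsIntegral X]
  [DCoh.HasRpush (X ↘ Spec (CommRingCat.of A))]
  (hdim : ringKrullDim A = 2)
  (hbir : ∃ U : (Spec (CommRingCat.of A)).Opens, (U : Set (Spec (CommRingCat.of A))).Nonempty ∧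
    IsIso ((X ↘ Spec (CommRingCat.of A)) ∣_ U))
  {hf : DCoh.RpushPreservesQCoh (X ↘ Spec (CommRingCat.of A))}
  {a : DCoh.DQCoh (Spec (CommRingCat.of A)) ⥤ DCoh.DQCoh X}
  (adj : DCoh.RpushQ (X ↘ Spec (CommRingCat.of A)) hf ⊣ a)
  (h1 : Subsingleton (Coh.HH X (Coh.structureModule X) 1))

include hdim hbir h1 in
theorem nonempty_iso_unit :
    Nonempty (unitD A ≅ (gammaD hf).obj (unitX X)) := by
  haveI := DQPush.hasInj X
  haveI : HasInjectiveResolutions (ModSite.Mod X.sheaf) := DQPush.hasInj X
  haveI : SiteCmp.HasRpushD (ModSite.RMor.ofScheme (X ↘ Spec (CommRingCat.of A))) :=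
    ‹DCoh.HasRpush (X ↘ Spec (CommRingCat.of A))›
  let Y := (gammaD hf).obj (unitX X)
  let eY : (DCoh.tildeD (CommRingCat.of A)).obj Y ≅
      (DCoh.Rpush (X ↘ Spec (CommRingCat.of A))).obj (DCoh.inD X (Coh.structureModule X)) :=
    (ObjectProperty.ι _).mapIso ((tildeQ A).asEquivalence.counitIso.app
      ((DCoh.RpushQ (X ↘ Spec (CommRingCat.of A)) hf).obj (unitX X)))
  haveI : Y.IsGE 0 := (DerivedCategory.isGE_iff _ _).2 fun i hi => DQCoh.isZero_of_tilde (R := CommRingCat.of A)
    ((RPushSite.isZero_homology_single_neg (ModSite.RMor.ofScheme (X ↘ Spec (CommRingCat.of A)))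
      (Coh.structureModule X) i hi).of_iso
      ((DQCoh.hdTildeIso (R := CommRingCat.of A) Y i).symm ≪≫ (DerivedCategory.homologyFunctor _ i).mapIso eY))
  haveI : Y.IsLE 0 := (DerivedCategory.isLE_iff _ _).2 fun i hi => by
    obtain ⟨p, rfl⟩ : ∃ p : ℕ, i = (p : ℤ) := ⟨i.toNat, by omega⟩
    obtain ⟨e⟩ := nonempty_hd_equiv eY p
    haveI : Subsingleton (Coh.HH X (Coh.structureModule X) p) := by
      rcases (show p = 1 ∨ 1 < p by omega) with rfl | hp
      · exact h1
      · exact subsingleton_hh_two hdim hbir _ (QC.isQCoh_unit X) p hp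
    haveI : Subsingleton (Dual.HD A Y (p : ℤ)) := e.toEquiv.subsingleton
    exact ModuleCat.isZero_of_subsingleton _
  obtain ⟨N, ⟨eN⟩⟩ := DerivedCategory.exists_iso_singleFunctor_obj_of_isGE_of_isLE Y 0
  obtain ⟨e₁⟩ := nonempty_hd_equiv eY 0
  obtain ⟨e₂⟩ := nonempty_hh_zero (A := A) (X := X) hbir
  let l : ModuleCat.of A A ≅ N := (e₂.trans e₁.symm).toModuleIso ≪≫
    (DerivedCategory.homologyFunctor (ModuleCat.{u} A) 0).mapIso eN ≪≫
    (DerivedCategory.singleFunctorCompHomologyFunctorIso (ModuleCat.{u} A) 0).app N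
  exact ⟨(DerivedCategory.singleFunctor (ModuleCat.{u} A) 0).mapIso l ≪≫ eN.symm⟩

include hdim hbir h1 in
theorem isIso_trace_tilde (ω : Dual.D A) :
    IsIso ((DerivedCategory.homologyFunctor (Spec (CommRingCat.of A)).Modules 0).map
      ((ObjectProperty.ι DCoh.IsQCohD).map (adj.counit.app ((tildeQ A).obj ω)))) := by
  obtain ⟨σ, hσ⟩ := exists_unit_map (hf := hf)
  obtain ⟨g⟩ := nonempty_iso_unit hdim hbir (hf := hf) h1
  let E := (tildeQ A).asEquivalence
  -- `σ` is invertible
  haveI : IsIso σ := by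
    obtain ⟨x, hx⟩ := (hσ (unitX X)).2 g.hom
    let s := σ ≫ g.inv
    let t := g.hom ≫ (gammaD hf).map x ≫ g.inv
    have h : s ≫ t = 𝟙 _ := by
      simp only [s, t, Category.assoc, Iso.inv_hom_id_assoc]
      rw [← Category.assoc, show σ ≫ (gammaD hf).map x = g.hom from hx, g.hom_inv_id]
    have hcomm : t ≫ s = s ≫ t := by
      have key : ∀ u : unitD A ⟶ unitD A, ∃ c : A, u = c • 𝟙 (unitD A) := fun u => by
        obtain ⟨v, rfl⟩ := (DerivedCategory.singleFunctor (ModuleCat.{u} A) 0).map_surjective u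
        refine ⟨v.hom (1 : A), ?_⟩
        rw [← CategoryTheory.Functor.map_id, ← Functor.map_smul]
        congr 1
        refine ModuleCat.hom_ext (LinearMap.ext_ring ?_)
        show v.hom 1 = v.hom (1 : A) • (1 : A)
        rw [smul_eq_mul, mul_one]
      obtain ⟨c, hc⟩ := key s
      rw [hc, Linear.comp_smul, Linear.smul_comp, Category.id_comp, Category.comp_id]
    haveI : IsIso s := ⟨t, h, hcomm.trans h⟩
    rw [show σ = s ≫ g.hom by simp [s]]
    infer_instance
  -- the counit, read in `D(A)`
  let M := (DCoh.RpushQ (X ↘ Spec (CommRingCat.of A)) hf).obj (a.obj ((tildeQ A).obj ω))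
  let c : M ⟶ (tildeQ A).obj ω := adj.counit.app ((tildeQ A).obj ω)
  let ε := E.inverse.map c
  have hε : Function.Bijective fun v : unitD A ⟶ E.inverse.obj M => v ≫ ε := by
    have h2 : Function.Bijective fun x : unitX X ⟶ a.obj ((tildeQ A).obj ω) => (σ ≫ (gammaD hf).map x) ≫ ε := by
      have e : (fun x : unitX X ⟶ a.obj ((tildeQ A).obj ω) => (σ ≫ (gammaD hf).map x) ≫ ε) =
          (fun w => σ ≫ w) ∘ (fun v => E.inverse.map v) ∘ (adj.homEquiv _ _).symm := funext fun x => by
        simp only [Function.comp_apply, Category.assoc, Adjunction.homEquiv_counit, Functor.map_comp, ε, c]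
        rfl
      rw [e]
      exact ((asIso σ).symm.homFromEquiv.bijective).comp
        (((Functor.FullyFaithful.ofFullyFaithful E.inverse).map_bijective _ _).comp (Equiv.bijective _))
    exact (Function.Bijective.of_comp_iff _ (hσ _)).1 h2
  have hH : IsIso ((DerivedCategory.homologyFunctor (ModuleCat.{u} A) 0).map ε) := by
    refine (ConcreteCategory.isIso_iff_bijective _).2 ?_
    have e : ⇑((DerivedCategory.homologyFunctor (ModuleCat.{u} A) 0).map ε).hom ∘ evUnit A (E.inverse.obj M) =
        evUnit A (E.inverse.obj ((tildeQ A).obj ω)) ∘ fun v => v ≫ ε := funext fun v => (evUnit_comp A v ε).symm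
    refine (Function.Bijective.of_comp_iff _ (evUnit A (E.inverse.obj M)).bijective).1 ?_
    rw [show ⇑(ConcreteCategory.hom ((DerivedCategory.homologyFunctor (ModuleCat.{u} A) 0).map ε)) =
      ⇑((DerivedCategory.homologyFunctor (ModuleCat.{u} A) 0).map ε).hom from rfl, e]
    exact (evUnit A _).bijective.comp hε
  have hT : IsIso ((DerivedCategory.homologyFunctor (Spec (CommRingCat.of A)).Modules 0).map
      ((DCoh.tildeD (CommRingCat.of A)).map ε)) :=
    (NatIso.isIso_map_iff (DQCoh.homologyDerIso (tilde.functor (CommRingCat.of A)) 0) ε).2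
      ((tilde.functor (CommRingCat.of A)).map_isIso _)
  have hn := E.counitIso.hom.naturality c
  let F := ObjectProperty.ι DCoh.IsQCohD ⋙ DerivedCategory.homologyFunctor (Spec (CommRingCat.of A)).Modules 0
  have hF : IsIso (F.map (E.functor.map (E.inverse.map c))) := hT
  have h5 : IsIso (F.map ((E.inverse ⋙ E.functor).map c ≫ E.counitIso.hom.app _)) := by
    rw [Functor.map_comp]
    exact IsIso.comp_isIso' hF inferInstance
  rw [hn, Functor.map_comp] at h5
  exact @IsIso.of_isIso_comp_left _ _ _ _ _ (F.map (E.counitIso.hom.app M)) (F.map c) inferInstance h5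

end Groth.Agent.GRVan
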