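import Groth.Agent.GRVan.Trace
import Groth.Agent.GRVan.Kill

/-!
An element killing the cokernel of the trace in degree zero kills `H¹(X, O)`.
-/

set_option autoImplicit false
set_option backward.isDefEq.respectTransparency false
set_option backward.isDefEq.respectTransparency.types false
set_option linter.style.haveILetI false
set_option linter.unusedSectionVars false
set_option synthInstance.maxHeartbeats 100000
set_option maxHeartbeats 1000000

universe u

open CategoryTheory CategoryTheory.Limits Pretriangulated AlgebraicGeometry Opposite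

attribute [local instance] HasDerivedCategory.standard

noncomputable section

namespace Groth.Agent.GRVan

open Groth.Agent.DCohShriek Groth.Agent.PerfGen

variable {A : Type u} [CommRing A] [IsDomain A] [IsLocalRing A] [IsNoetherianRing A] [IsIntegrallyClosed A]
  {X : Scheme.{u}} [X.Over (Spec (CommRingCat.of A))] [IsProper (X ↘ Spec (CommRingCat.of A))] [IsIntegral X]
  [DCoh.HasRpush (X ↘ Spec (CommRingCat.of A))]
  (hdim : ringKrullDim A = 2)
  (hbir : ∃ U : (Spec (CommRingCat.of A)).Opens, (U : Set (Spec (CommRingCat.of A))).Nonempty ∧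
    IsIso ((X ↘ Spec (CommRingCat.of A)) ∣_ U))
  {hf : DCoh.RpushPreservesQCoh (X ↘ Spec (CommRingCat.of A))}
  {a : DCoh.DQCoh (Spec (CommRingCat.of A)) ⥤ DCoh.DQCoh X}
  (adj : DCoh.RpushQ (X ↘ Spec (CommRingCat.of A)) hf ⊣ a)
  {W : Type u} [AddCommGroup W] [Module A W] (hω : Dual.IsDualizing A (Dual.inD A W))
  (hker : Subsingleton (((DCoh.tildeD (CommRingCat.of A)).obj (Dual.inD A (IsLocalRing.ResidueField A)))⟦(-1 : ℤ)⟧ ⟶
    (DCoh.Rpush (X ↘ Spec (CommRingCat.of A))).obj (DCoh.inD X (Coh.structureModule X))))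

include hdim hbir adj hω hker in
theorem smul_hh1_eq_zero (d : A)
    (htr : ∀ s : ((DerivedCategory.homologyFunctor (Spec (CommRingCat.of A)).Modules 0).obj
        ((tildeQ A).obj (Dual.inD A W)).obj).val.obj (Opposite.op ⊤),
      ∃ t, (((DerivedCategory.homologyFunctor (Spec (CommRingCat.of A)).Modules 0).map
          ((ObjectProperty.ι DCoh.IsQCohD).map (adj.counit.app ((tildeQ A).obj (Dual.inD A W))))).val.app
            (Opposite.op ⊤)) t = ((Scheme.ΓSpecIso (CommRingCat.of A)).inv.hom d) • s)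
    (z : Coh.HH X (Coh.structureModule X) 1) : d • z = 0 := by
  haveI := DQPush.hasInj X
  haveI : HasInjectiveResolutions (ModSite.Mod X.sheaf) := DQPush.hasInj X
  haveI : SiteCmp.HasRpushD (ModSite.RMor.ofScheme (X ↘ Spec (CommRingCat.of A))) :=
    ‹DCoh.HasRpush (X ↘ Spec (CommRingCat.of A))›
  haveI := (DQCoh.tildeD_affine (R := CommRingCat.of A)).1
  haveI := (DQCoh.tildeD_affine (R := CommRingCat.of A)).2.1
  haveI : IsLocallyNoetherian X := LocallyOfFiniteType.isLocallyNoetherian (X ↘ Spec (CommRingCat.of A))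
  haveI : CompactSpace X := QuasiCompact.compactSpace_of_compactSpace (X ↘ Spec (CommRingCat.of A))
  let E := (tildeQ A).asEquivalence
  let Y := (gammaD hf).obj (unitX X)
  let eY : (DCoh.tildeD (CommRingCat.of A)).obj Y ≅
      (DCoh.Rpush (X ↘ Spec (CommRingCat.of A))).obj (DCoh.inD X (Coh.structureModule X)) :=
    (ObjectProperty.ι _).mapIso (E.counitIso.app
      ((DCoh.RpushQ (X ↘ Spec (CommRingCat.of A)) hf).obj (unitX X)))
  haveI : Y.IsGE 0 := (DerivedCategory.isGE_iff _ _).2 fun i hi => DQCoh.isZero_of_tilde (R := CommRingCat.of A)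
    ((RPushSite.isZero_homology_single_neg (ModSite.RMor.ofScheme (X ↘ Spec (CommRingCat.of A)))
      (Coh.structureModule X) i hi).of_iso
      ((DQCoh.hdTildeIso (R := CommRingCat.of A) Y i).symm ≪≫ (DerivedCategory.homologyFunctor _ i).mapIso eY))
  haveI : Y.IsLE 1 := (DerivedCategory.isLE_iff _ _).2 fun i hi => by
    obtain ⟨p, rfl⟩ : ∃ p : ℕ, i = (p : ℤ) := ⟨i.toNat, by omega⟩
    obtain ⟨e⟩ := nonempty_hd_equiv eY p
    haveI := subsingleton_hh_two hdim hbir _ (QC.isQCoh_unit X) p (by omega)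
    haveI : Subsingleton (Dual.HD A Y (p : ℤ)) := e.toEquiv.subsingleton
    exact ModuleCat.isZero_of_subsingleton _
  obtain ⟨c, hc, hc0⟩ := exists_ne_zero_mem hdim
  obtain ⟨y, hy, hy0, hQ⟩ := exists_pair hdim hc hc0
  obtain ⟨e₁⟩ := nonempty_hd_equiv eY 0
  obtain ⟨e₂⟩ := nonempty_hh_zero (A := A) (X := X) hbir
  obtain ⟨eH⟩ := nonempty_hd_equiv eY 1
  have hH : IsFiniteLength A (Dual.HD A Y 1) := by
    refine eH.symm.isFiniteLength ?_
    haveI := CohFinite.finite_proper (A := A) X (Coh.structureModule X) RefStalk.isCoh_structureModule 1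
    exact isFiniteLength_of_kills (M := Coh.HH X (Coh.structureModule X) 1)
      fun c' hc' => exists_kills hdim hbir hc' _ (QC.isQCoh_unit X) 0
  let eκ := ((DCoh.tildeD (CommRingCat.of A)).commShiftIso (-1 : ℤ)).app (Dual.inD A (IsLocalRing.ResidueField A))
  have hkY : Subsingleton ((Dual.inD A (A ⧸ IsLocalRing.maximalIdeal A))⟦(-1 : ℤ)⟧ ⟶ Y) := by
    refine ⟨fun g g' => (DCoh.tildeD (CommRingCat.of A)).map_injective ?_⟩
    rw [← cancel_mono eY.hom, ← cancel_epi eκ.inv]
    exact @Subsingleton.elim _ hker _ _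
  obtain ⟨σ, hσ⟩ := exists_unit_map (hf := hf)
  -- the trace in degree zero, read on modules
  let M := (DCoh.RpushQ (X ↘ Spec (CommRingCat.of A)) hf).obj (a.obj ((tildeQ A).obj (Dual.inD A W)))
  let cc : M ⟶ (tildeQ A).obj (Dual.inD A W) := adj.counit.app ((tildeQ A).obj (Dual.inD A W))
  let F := ObjectProperty.ι DCoh.IsQCohD ⋙ DerivedCategory.homologyFunctor (Spec (CommRingCat.of A)).Modules 0
  let H0 := DerivedCategory.homologyFunctor (ModuleCat.{u} A) 0
  let Φ : E.inverse ⋙ H0 ≅ F ⋙ moduleSpecΓFunctor (R := CommRingCat.of A) :=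
    Functor.isoWhiskerLeft E.inverse (Functor.isoWhiskerLeft H0 (tilde.toTildeΓNatIso (R := CommRingCat.of A))) ≪≫
    Functor.isoWhiskerLeft E.inverse (Functor.isoWhiskerRight
      ((DQCoh.homologyDerIso (tilde.functor (CommRingCat.of A)) 0).symm) (moduleSpecΓFunctor (R := CommRingCat.of A))) ≪≫
    Functor.isoWhiskerRight (Functor.isoWhiskerRight E.counitIso F) (moduleSpecΓFunctor (R := CommRingCat.of A))
  have hrange : ∀ s : H0.obj (E.inverse.obj ((tildeQ A).obj (Dual.inD A W))),
      ∃ t, (H0.map (E.inverse.map cc)).hom t = d • s := fun s => by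
    let f' := (Φ.hom.app ((tildeQ A).obj (Dual.inD A W))).hom
    obtain ⟨t, ht⟩ := htr (f' s)
    refine ⟨(Φ.inv.app M).hom t, ?_⟩
    have hn := congrArg (fun φ => φ.hom ((Φ.inv.app M).hom t)) (Φ.hom.naturality cc)
    have h1 : (Φ.hom.app M).hom ((Φ.inv.app M).hom t) = t :=
      congrArg (fun φ => φ.hom t) (Φ.inv_hom_id_app M)
    refine ((Φ.app ((tildeQ A).obj (Dual.inD A W))).toLinearEquiv).injective ?_
    refine hn.trans ?_
    show ((F ⋙ moduleSpecΓFunctor (R := CommRingCat.of A)).map cc).hom ((Φ.hom.app M).hom ((Φ.inv.app M).hom t)) =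
      f' (d • s)
    rw [h1, map_smul]
    exact ht
  -- maps to the dualizing module
  let e := E.unitIso.app (Dual.inD A W)
  have hσ' : ∀ g : Dual.inD A A ⟶ Dual.inD A W, ∃ u : Y ⟶ Dual.inD A W, σ ≫ u = d • g := by
    intro g
    obtain ⟨t, ht⟩ := hrange (evUnit A _ (g ≫ e.hom))
    obtain ⟨w, rfl⟩ := (evUnit A (E.inverse.obj M)).surjective t
    obtain ⟨x, hx⟩ := (hσ _).2 w
    refine ⟨(gammaD hf).map x ≫ E.inverse.map cc ≫ e.inv, ?_⟩
    have h2 : w ≫ E.inverse.map cc = d • (g ≫ e.hom) := (evUnit A _).injective (by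
      rw [evUnit_comp, map_smul]
      exact ht)
    change σ ≫ (gammaD hf).map x = w at hx
    rw [← Category.assoc, hx, ← Category.assoc, h2, Linear.smul_comp, Category.assoc, Iso.hom_inv_id, Category.comp_id]
  have hz := kill_cohomology_one hω hc hy (fun d hd => (mul_eq_zero.1 hd).resolve_left hc0) hy0 hQ Y
    ⟨e₂.trans e₁.symm⟩ hH hkY σ d hσ' (eH.symm z)
  exact eH.symm.injective ((map_smul eH.symm d z).trans (hz.trans (map_zero eH.symm).symm))

end Groth.Agent.GRVan
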